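import Mathlib

/-!
A self-centralising elementary abelian Sylow subgroup of order nine has a two-group as automizer.
-/

set_option autoImplicit false
set_option linter.all false

namespace H6.Three

universe u

variable {G : Type u} [Group G] [Finite G] {M : Subgroup G}

theorem automizer_prime (h9 : Nat.card M = 9) (hC : Subgroup.centralizer (M : Set G) ≤ M) {g : G}
    (hg : g ∈ Subgroup.normalizer (M : Set G)) {q : ℕ} (hq : q.Prime) (hq5 : 5 ≤ q) : orderOf g ≠ q := by
  intro hord
  classical
  haveI : Fact q.Prime := ⟨hq⟩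
  set Z := Subgroup.zpowers g with hZ
  have hZN : Z ≤ Subgroup.normalizer (M : Set G) := Subgroup.zpowers_le.2 hg
  letI : MulAction Z M :=
    { smul := fun z m => ⟨(z : G) * m * (z : G)⁻¹, (Subgroup.mem_normalizer_iff.1 (hZN z.2) m).1 m.2⟩
      one_smul := fun m => Subtype.ext (show (1 : G) * m * (1 : G)⁻¹ = m by group)
      mul_smul := fun a b m => Subtype.ext (show ((a : G) * b) * m * ((a : G) * b)⁻¹ =
        (a : G) * ((b : G) * m * (b : G)⁻¹) * (a : G)⁻¹ by group) }
  have hP : IsPGroup q Z := IsPGroup.of_card (n := 1) (by rw [hZ, Nat.card_zpowers, hord, pow_one])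
  have hmod := hP.card_modEq_card_fixedPoints M
  let F : Subgroup M :=
    { carrier := {m | g * (m : G) * g⁻¹ = m}
      one_mem' := by simp
      mul_mem' := fun {a b} ha hb => by
        show g * ((a : G) * b) * g⁻¹ = (a : G) * b
        rw [show g * ((a : G) * b) * g⁻¹ = (g * a * g⁻¹) * (g * b * g⁻¹) by group, ha, hb]
      inv_mem' := fun {a} ha => by
        show g * (a : G)⁻¹ * g⁻¹ = (a : G)⁻¹
        rw [show g * (a : G)⁻¹ * g⁻¹ = (g * a * g⁻¹)⁻¹ by group, ha] }
  have hFix : MulAction.fixedPoints Z M = (F : Set M) := by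
    ext m
    constructor
    · intro h
      exact congrArg Subtype.val (h ⟨g, Subgroup.mem_zpowers g⟩)
    · intro h z
      obtain ⟨k, hk⟩ := Subgroup.mem_zpowers_iff.1 z.2
      apply Subtype.ext
      show (z : G) * m * (z : G)⁻¹ = m
      rw [← hk]
      have hc : Commute g (m : G) := by
        show g * (m : G) = m * g
        calc g * (m : G) = (g * m * g⁻¹) * g := by group
          _ = m * g := by rw [show g * (m : G) * g⁻¹ = m from h]
      rw [(hc.zpow_left k).eq]; group
  have hcard : Nat.card (MulAction.fixedPoints Z M) = Nat.card F := by rw [hFix]; rfl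
  rw [hcard, h9] at hmod
  have hdvd : Nat.card F ∣ 3 ^ 2 := by
    have := Subgroup.card_subgroup_dvd_card F
    rwa [h9] at this
  obtain ⟨k, hk, hk'⟩ := (Nat.dvd_prime_pow Nat.prime_three).1 hdvd
  rw [hk'] at hmod
  have hk2 : k = 2 := by
    by_contra hne
    have hdiv : q ∣ 9 - 3 ^ k := (Nat.modEq_iff_dvd' (by interval_cases k <;> norm_num)).1 hmod.symm
    interval_cases k <;> norm_num at hdiv hne
    · have := Nat.le_of_dvd (by norm_num) hdiv
      interval_cases q <;> revert hq hdiv <;> norm_num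
    · have := Nat.le_of_dvd (by norm_num) hdiv
      interval_cases q <;> revert hq hdiv <;> norm_num
  have htop : F = ⊤ := Subgroup.eq_top_of_card_eq F (by rw [hk', hk2, h9]; norm_num)
  have hgM : g ∈ M := hC (Subgroup.mem_centralizer_iff.2 fun m hm => by
    have h : g * m * g⁻¹ = m := (htop.symm ▸ Subgroup.mem_top (⟨m, hm⟩ : M) : (⟨m, hm⟩ : M) ∈ F)
    calc m * g = (g * m * g⁻¹) * g := by rw [h]
      _ = g * m := by group)
  have : q ∣ 9 := by
    have hd := orderOf_dvd_natCard (⟨g, hgM⟩ : M)
    rw [h9, ← Subgroup.orderOf_coe, hord] at hd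
    exact hd
  rename' this => hq9
  have := Nat.le_of_dvd (by norm_num) hq9
  interval_cases q <;> revert hq hq9 <;> norm_num

/-- The normaliser has order nine times a power of two when `M` is a Sylow subgroup. -/
theorem card_normalizer (h9 : Nat.card M = 9) (hC : Subgroup.centralizer (M : Set G) ≤ M)
    (h27 : ¬ 27 ∣ Nat.card (Subgroup.normalizer (M : Set G))) :
    ∃ a, Nat.card (Subgroup.normalizer (M : Set G)) = 9 * 2 ^ a := by
  have h9N : 9 ∣ Nat.card (Subgroup.normalizer (M : Set G)) := h9 ▸ Subgroup.card_dvd_of_le Subgroup.le_normalizer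
  obtain ⟨r, hr⟩ := h9N
  have h3r : ¬ 3 ∣ r := fun h => h27 (hr ▸ by
    obtain ⟨s, rfl⟩ := h; exact ⟨s, by ring⟩)
  have hr0 : r ≠ 0 := fun h => by
    rw [h, mul_zero] at hr
    exact Nat.card_pos.ne' hr
  refine ⟨r.primeFactorsList.length, ?_⟩
  rw [hr]
  congr 1
  refine Nat.eq_prime_pow_of_unique_prime_dvd hr0 ?_
  intro q hq hqr
  by_contra hne
  have hq3 : q ≠ 3 := fun e => h3r (e ▸ hqr)
  have hq4 : q ≠ 4 := fun e => by rw [e] at hq; norm_num at hq
  have hq5 : 5 ≤ q := by have := hq.two_le; omega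
  haveI : Fact q.Prime := ⟨hq⟩
  obtain ⟨x, hx⟩ := exists_prime_orderOf_dvd_card' (G := Subgroup.normalizer (M : Set G)) q
    (by rw [hr]; exact dvd_mul_of_dvd_right hqr 9)
  exact automizer_prime h9 hC x.2 hq hq5 (by rw [Subgroup.orderOf_coe]; exact hx)

end H6.Three
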