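import Cfsg.Agent.H6.Three.Model
import Cfsg.Agent.H12.Products
import Cfsg.Agent.H16.VChar
import Cfsg.Agent.H13.PermChar

/-!
Generalized characters of the model and the virtual characters they induce on a group in which the
special elements of the model form a trivial-intersection set.
-/

set_option autoImplicit false
set_option linter.all false

open Cfsg
open scoped ComplexConjugate

namespace H6.Three

universe u

/-! ### generalized characters of the model -/

def IsGenK (θ : K → ℤ) : Prop := IsGeneralizedCharacter K (fun x => (θ x : ℂ))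

theorem IsGenK.congr {a b : K → ℤ} (ha : IsGenK a) (h : ∀ x, b x = a x) : IsGenK b := by
  have : b = a := funext h
  rwa [this]

theorem IsGenK.add {a b : K → ℤ} (ha : IsGenK a) (hb : IsGenK b) : IsGenK (fun x => a x + b x) := by
  show IsGeneralizedCharacter K _
  convert H16.gen_add ha hb using 1
  funext x; simp

theorem IsGenK.sub {a b : K → ℤ} (ha : IsGenK a) (hb : IsGenK b) : IsGenK (fun x => a x - b x) := by
  show IsGeneralizedCharacter K _
  convert H16.gen_sub ha hb using 1
  funext x; simp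

theorem IsGenK.mul {a b : K → ℤ} (ha : IsGenK a) (hb : IsGenK b) : IsGenK (fun x => a x * b x) := by
  obtain ⟨p, q, hp, hq, e⟩ := ha
  obtain ⟨r, s, hr, hs, e'⟩ := hb
  refine ⟨p * r + q * s, p * s + q * r, H12.IsCharacter.add (H12.IsCharacter.mul hp hr) (H12.IsCharacter.mul hq hs),
    H12.IsCharacter.add (H12.IsCharacter.mul hp hs) (H12.IsCharacter.mul hq hr), ?_⟩
  funext x
  have h1 := congrFun e x
  have h2 := congrFun e' x
  simp only [Pi.sub_apply] at h1 h2
  simp only [Pi.sub_apply, Pi.add_apply, Pi.mul_apply]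
  push_cast
  rw [h1, h2]; ring

theorem isGenK_one : IsGenK (fun _ => 1) := by
  show IsGeneralizedCharacter K _
  convert H16.gen_of_char (H12.isCharacter_one (G := K)) using 1
  funext x; simp

theorem isGenK_sign (f : K → ℤ) (h2 : ∀ x, f x = 1 ∨ f x = -1) (hm : ∀ x y, f (x * y) = f x * f y) :
    IsGenK f := by
  have h1 : f 1 = 1 := by
    rcases h2 1 with e | e
    · exact e
    · have := hm 1 1; rw [mul_one, e] at this; norm_num at this
  let F : K →* ℂˣ :=
    { toFun := fun x => if f x = 1 then 1 else -1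
      map_one' := by simp [h1]
      map_mul' := fun x y => by
        rcases h2 x with e | e <;> rcases h2 y with e' | e' <;> simp [hm, e, e'] }
  show IsGeneralizedCharacter K _
  convert H16.gen_of_char (H12.isCharacter_monoidHom F) using 1
  funext x
  rcases h2 x with e | e <;> simp [F, e]

theorem isGenK_perm {n : ℕ} (p : K → Fin n → Fin n) (h1 : ∀ i, p 1 i = i)
    (hm : ∀ x y i, p (x * y) i = p x (p y i)) :
    IsGenK (fun x => ((Finset.univ.filter fun i => p x i = i).card : ℤ)) := by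
  letI : MulAction K (Fin n) := { smul := p, one_smul := h1, mul_smul := hm }
  have h : IsCharacter K (fun g => (Nat.card (MulAction.fixedBy (Fin n) g) : ℂ)) := by
    rw [H13.permChar_eq]
    exact H12.isCharacter_character _
  show IsGeneralizedCharacter K _
  convert H16.gen_of_char h using 1
  funext g
  have hc : Nat.card (MulAction.fixedBy (Fin n) g) = (Finset.univ.filter fun i => p g i = i).card := by
    rw [Nat.card_eq_fintype_card, Fintype.card_subtype]
    rfl
  rw [hc]; simp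

def act3 (g : D3) (i : Fin 3) : Fin 3 :=
  match g with
  | .r k => let k' : Fin 3 := k; i + k'
  | .sr k => let k' : Fin 3 := k; -(i + k')

def pts6 (x : K) (i : Fin 6) : Fin 6 :=
  let side : Bool := decide (3 ≤ i.val)
  let v : Fin 3 := ⟨i.val % 3, Nat.mod_lt _ (by omega)⟩
  let side' := xor side x.w
  let v' := bif side' then act3 x.b v else act3 x.a v
  bif side' then ⟨3 + v'.val, by omega⟩ else ⟨v'.val, by omega⟩

def pts9 (x : K) (i : Fin 9) : Fin 9 :=
  let u : Fin 3 := ⟨i.val / 3, by omega⟩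
  let v : Fin 3 := ⟨i.val % 3, Nat.mod_lt _ (by omega)⟩
  let u' := act3 x.a (bif x.w then v else u)
  let v' := act3 x.b (bif x.w then u else v)
  ⟨3 * u'.val + v'.val, by omega⟩

def pts4 (x : K) (i : Fin 4) : Fin 4 :=
  let side : Bool := decide (2 ≤ i.val)
  let v : Bool := decide (i.val % 2 = 1)
  let side' := xor side x.w
  let v' := xor v (bif side' then bit x.b else bit x.a)
  bif side' then (bif v' then 3 else 2) else (bif v' then 1 else 0)

theorem pts6_one : ∀ i, pts6 1 i = i := by decide +kernel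
theorem pts6_mul : ∀ x y i, pts6 (x * y) i = pts6 x (pts6 y i) := by decide +kernel
theorem pts9_one : ∀ i, pts9 1 i = i := by decide +kernel
theorem pts9_mul : ∀ x y i, pts9 (x * y) i = pts9 x (pts9 y i) := by decide +kernel
theorem pts4_one : ∀ i, pts4 1 i = i := by decide +kernel
theorem pts4_mul : ∀ x y i, pts4 (x * y) i = pts4 x (pts4 y i) := by decide +kernel

theorem thA_eq : ∀ x, thA x = ((Finset.univ.filter fun i => pts6 x i = i).card : ℤ) - (1 + lb x) := by
  decide +kernel
theorem chiTwo_eq : ∀ x, chiTwo x = ((Finset.univ.filter fun i => pts4 x i = i).card : ℤ) - (1 + lb x) := by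
  decide +kernel
theorem thB_eq : ∀ x, thB x = ((Finset.univ.filter fun i => pts9 x i = i).card : ℤ) - 1 - thA x := by
  decide +kernel
theorem la_cases : ∀ x, la x = 1 ∨ la x = -1 := by decide +kernel
theorem lb_cases : ∀ x, lb x = 1 ∨ lb x = -1 := by decide +kernel
theorem la_mul : ∀ x y, la (x * y) = la x * la y := by decide +kernel
theorem lb_mul : ∀ x y, lb (x * y) = lb x * lb y := by decide +kernel

theorem gen_la : IsGenK la := isGenK_sign la la_cases la_mul
theorem gen_lb : IsGenK lb := isGenK_sign lb lb_cases lb_mul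
theorem gen_thA : IsGenK thA :=
  ((isGenK_perm pts6 pts6_one pts6_mul).sub (isGenK_one.add gen_lb)).congr thA_eq
theorem gen_chiTwo : IsGenK chiTwo :=
  ((isGenK_perm pts4 pts4_one pts4_mul).sub (isGenK_one.add gen_lb)).congr chiTwo_eq
theorem gen_thB : IsGenK thB :=
  (((isGenK_perm pts9 pts9_one pts9_mul).sub isGenK_one).sub gen_thA).congr thB_eq

theorem gen_alpha (i : Fin 4) : IsGenK (alpha i) := by
  fin_cases i
  · exact ((isGenK_one.add gen_lb).add gen_chiTwo).sub gen_thA
  · exact ((isGenK_one.add gen_la).add gen_chiTwo).sub gen_thB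
  · exact ((gen_la.add (gen_la.mul gen_lb)).add gen_chiTwo).sub (gen_la.mul gen_thA)
  · exact ((gen_lb.add (gen_la.mul gen_lb)).add gen_chiTwo).sub (gen_lb.mul gen_thB)

theorem gen_auxDeg : IsGenK auxDeg :=
  ((((((((gen_thA.add (gen_la.mul gen_thA)).add gen_thB).add (gen_lb.mul gen_thB)).sub isGenK_one).sub gen_la).sub
    gen_lb).sub (gen_la.mul gen_lb)).sub (gen_chiTwo.add gen_chiTwo)).congr fun x => by
      simp only [auxDeg]; ring

/-! ### the configuration -/

/-- An embedded copy of the model whose special elements form a trivial-intersection set. -/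
structure Config (G : Type u) [Group G] where
  j : K →* G
  inj : Function.Injective j
  ti : ∀ m : K, Spec m → ∀ g : G, g * j m * g⁻¹ ∈ j.range → g ∈ j.range

variable {G : Type u} [Group G] [Fintype G]

/-- A function on `K` living on the special elements. -/
structure Special (θ : K → ℤ) : Prop where
  supp : ∀ m, ¬ Spec m → θ m = 0
  cls : ∀ k m, θ (k * m * k⁻¹) = θ m
  gen : IsGenK θ

theorem special_alpha (i : Fin 4) : Special (alpha i) := ⟨alpha_supp i, alpha_class i, gen_alpha i⟩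

theorem spec_sq {m : K} (h : m ^ 2 = 1) : ¬ Spec m := by
  simp only [Spec, not_not]
  rw [show 4 = 2 * 2 from rfl, pow_mul, h, one_pow]

namespace Config

variable (S : Config G)

noncomputable def ext (θ : K → ℤ) : G → ℂ := Function.extend S.j (fun m => (θ m : ℂ)) 0

noncomputable def ind (θ : K → ℤ) : G → ℂ :=
  fun g => (72 : ℂ)⁻¹ * ∑ z : G, S.ext θ (z⁻¹ * g * z)

theorem ext_j (θ : K → ℤ) (m : K) : S.ext θ (S.j m) = θ m :=
  S.inj.extend_apply _ _ _

theorem ext_of_not_mem (θ : K → ℤ) {g : G} (hg : g ∉ S.j.range) : S.ext θ g = 0 :=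
  Function.extend_apply' _ _ _ fun ⟨m, hm⟩ => hg ⟨m, hm⟩

theorem sum_ext (θ : K → ℤ) (f : G → ℂ) :
    ∑ g : G, S.ext θ g * f g = ∑ m : K, (θ m : ℂ) * f (S.j m) := by
  classical
  rw [← Finset.sum_subset (Finset.subset_univ (Finset.univ.image S.j)) (fun g _ hg => ?_),
    Finset.sum_image (fun a _ b _ h => S.inj h)]
  · exact Finset.sum_congr rfl fun m _ => by rw [S.ext_j]
  · rw [S.ext_of_not_mem θ (fun ⟨m, hm⟩ => hg (Finset.mem_image.2 ⟨m, Finset.mem_univ _, hm⟩)), zero_mul]

theorem ind_cls (θ : K → ℤ) : IsClassFunction G (S.ind θ) := by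
  intro g h
  simp only [ind]
  congr 1
  refine Fintype.sum_equiv (Equiv.mulLeft h⁻¹) _ _ fun z => ?_
  simp only [Equiv.coe_mulLeft]
  congr 1; group

theorem natCard_K : Nat.card K = 72 := by rw [Nat.card_eq_fintype_card, card_K]

/-- Frobenius reciprocity. -/
theorem inner_ind (θ : K → ℤ) {f : G → ℂ} (hf : IsClassFunction G f) :
    classInner (S.ind θ) f = classInner (fun m : K => (θ m : ℂ)) (fun m => f (S.j m)) := by
  classical
  rw [H12.classInner_def, H12.classInner_def]
  have h1 : ∀ z : G, ∑ g : G, S.ext θ (z⁻¹ * g * z) * conj (f g) = ∑ m : K, (θ m : ℂ) * conj (f (S.j m)) := by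
    intro z
    rw [← S.sum_ext θ (fun g => conj (f g))]
    refine Fintype.sum_equiv (MulAut.conj z⁻¹).toEquiv _ _ fun g => ?_
    show _ = S.ext θ (z⁻¹ * g * z⁻¹⁻¹) * conj (f (z⁻¹ * g * z⁻¹⁻¹))
    rw [hf g z⁻¹, inv_inv]
  calc (Nat.card G : ℂ)⁻¹ * ∑ g : G, S.ind θ g * conj (f g)
      = (Nat.card G : ℂ)⁻¹ * ((72 : ℂ)⁻¹ * ∑ z : G, ∑ g : G, S.ext θ (z⁻¹ * g * z) * conj (f g)) := by
        congr 1
        rw [Finset.sum_comm, Finset.mul_sum]
        exact Finset.sum_congr rfl fun g _ => by simp only [ind, Finset.sum_mul, mul_assoc]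
    _ = _ := by
        simp only [h1, Finset.sum_const, Finset.card_univ, nsmul_eq_mul]
        rw [natCard_K, Nat.card_eq_fintype_card]
        have : (Fintype.card G : ℂ) ≠ 0 := by exact_mod_cast Fintype.card_ne_zero
        push_cast
        field_simp

/-- The value of a special induced function on the embedded group. -/
theorem ind_j {θ : K → ℤ} (hθ : Special θ) {m : K} (hm : Spec m) : S.ind θ (S.j m) = θ m := by
  classical
  have h1 : ∀ z : G, z ∉ S.j.range → S.ext θ (z⁻¹ * S.j m * z) = 0 := by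
    intro z hz
    refine S.ext_of_not_mem θ fun h => hz ?_
    have := S.ti m hm z⁻¹ (by rwa [inv_inv])
    simpa using S.j.range.inv_mem this
  simp only [ind]
  rw [← Finset.sum_subset (Finset.subset_univ (Finset.univ.image S.j))
      (fun z _ hz => h1 z fun ⟨k, hk⟩ => hz (Finset.mem_image.2 ⟨k, Finset.mem_univ _, hk⟩)),
    Finset.sum_image (fun a _ b _ h => S.inj h)]
  have h2 : ∀ k : K, S.ext θ ((S.j k)⁻¹ * S.j m * S.j k) = θ m := fun k => by
    rw [← map_inv, ← map_mul, ← map_mul, S.ext_j]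
    have := hθ.cls k⁻¹ m
    rw [inv_inv] at this
    rw [this]
  simp only [h2, Finset.sum_const, Finset.card_univ, nsmul_eq_mul, card_K]
  push_cast; ring

theorem ind_eq_zero {θ : K → ℤ} (hθ : Special θ) {i : G} (hi : i ^ 2 = 1) : S.ind θ i = 0 := by
  simp only [ind]
  refine mul_eq_zero_of_right _ (Finset.sum_eq_zero fun z _ => ?_)
  by_cases h : z⁻¹ * i * z ∈ S.j.range
  · obtain ⟨m, hm⟩ := h
    rw [← hm, S.ext_j, hθ.supp m (spec_sq (S.inj ?_)), Int.cast_zero]
    rw [map_pow, hm, map_one, sq, show z⁻¹ * i * z * (z⁻¹ * i * z) = z⁻¹ * (i * i) * z by group, ← sq, hi]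
    group
  · exact S.ext_of_not_mem θ h

noncomputable def coef (θ : K → ℤ) (χ : IrrCharacter G) : ℂ :=
  classInner (fun m : K => (θ m : ℂ)) (fun m => (χ : G → ℂ) (S.j m))

theorem inner_ind_irr (θ : K → ℤ) (χ : IrrCharacter G) :
    classInner (S.ind θ) (χ : G → ℂ) = S.coef θ χ :=
  S.inner_ind θ (H12.irr_isClassFunction χ)

theorem coef_int {θ : K → ℤ} (hθ : IsGenK θ) (χ : IrrCharacter G) : ∃ z : ℤ, S.coef θ χ = z :=
  H16.gen_inner_int hθ (H16.gen_of_char (H12.IsCharacter.comp (H12.isCharacter_irr χ) S.j))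

theorem coef_sum (θ : K → ℤ) (χ : IrrCharacter G) :
    72 * S.coef θ χ = ∑ m : K, (θ m : ℂ) * conj ((χ : G → ℂ) (S.j m)) := by
  rw [coef, H12.classInner_def, natCard_K, Nat.cast_ofNat, ← mul_assoc, mul_inv_cancel₀ (by norm_num), one_mul]

theorem ind_apply_sum (θ : K → ℤ) (g : G) :
    S.ind θ g = ∑ χ : IrrCharacter G, S.coef θ χ * (χ : G → ℂ) g := by
  rw [H12.classFunction_apply_eq_sum (S.ind_cls θ) g]
  simp only [S.inner_ind_irr]

theorem gram {θ θ' : K → ℤ} (hθ : Special θ) (hθ' : Special θ') {k : ℤ}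
    (hk : ∑ m : K, θ m * θ' m = 72 * k) :
    ∑ χ : IrrCharacter G, S.coef θ χ * conj (S.coef θ' χ) = k := by
  have h1 := H12.classInner_eq_sum_mul (S.ind_cls θ) (f' := S.ind θ') (S.ind_cls θ')
  simp only [S.inner_ind_irr] at h1
  rw [← h1, S.inner_ind θ (S.ind_cls θ'), H12.classInner_def]
  have h2 : ∀ m : K, (θ m : ℂ) * conj (S.ind θ' (S.j m)) = ((θ m * θ' m : ℤ) : ℂ) := by
    intro m
    by_cases h : Spec m
    · rw [S.ind_j hθ' h]; simp
    · rw [hθ.supp m h]; simp
  simp only [h2, ← Int.cast_sum, hk, natCard_K]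
  push_cast; ring

theorem coef_trivial {θ : K → ℤ} {k : ℤ} (hk : ∑ m : K, θ m = 72 * k) :
    S.coef θ (H12.oneIrr G) = k := by
  rw [coef, H12.classInner_def, natCard_K]
  simp only [H12.oneIrr_apply, map_one, mul_one, ← Int.cast_sum, hk]
  push_cast; ring

/-- The class multiplication formula for two classes of involutions. -/
theorem count_formula {θ : K → ℤ} (i i' : G) (T T' : Finset K)
    (hT : ∀ m : K, m ∈ T ↔ IsConj i (S.j m)) (hT' : ∀ m : K, m ∈ T' ↔ IsConj i' (S.j m))
    (hθ : Special θ) (hi : i ^ 2 = 1) (hi' : i' ^ 2 = 1) :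
    ∑ χ : IrrCharacter G, S.coef θ χ * ((χ : G → ℂ) i * (χ : G → ℂ) i' / (χ : G → ℂ) 1) =
      (Nat.card {g : G // g * i = i * g} : ℂ) * (Nat.card {g : G // g * i' = i' * g} : ℂ) /
        (72 * Nat.card G) * (count T T' θ : ℂ) := by
  classical
  have hn : (Nat.card G : ℂ) ≠ 0 := H12.card_ne_zero'
  have h1 : ∑ χ : IrrCharacter G, S.coef θ χ * ((χ : G → ℂ) i * (χ : G → ℂ) i' / (χ : G → ℂ) 1) =
      (Nat.card G : ℂ)⁻¹ * ∑ a : G, S.ind θ (i * (a * i' * a⁻¹)) := by
    simp only [S.ind_apply_sum]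
    rw [Finset.sum_comm, Finset.mul_sum]
    refine Finset.sum_congr rfl fun χ _ => ?_
    rw [← Finset.mul_sum, H12.irr_class_product]
    field_simp
  have h2 : ∑ a : G, S.ind θ (i * (a * i' * a⁻¹)) =
      (72 : ℂ)⁻¹ * ∑ z : G, ∑ a : G, S.ext θ ((z * i * z⁻¹) * (a * i' * a⁻¹)) := by
    simp only [ind, ← Finset.mul_sum]
    congr 1
    rw [Finset.sum_comm]
    refine Fintype.sum_equiv (Equiv.inv G) _ _ fun z => ?_
    refine Fintype.sum_equiv (Equiv.mulLeft z⁻¹) _ _ fun a => ?_
    simp only [Equiv.coe_mulLeft, Equiv.inv_apply]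
    congr 1; group
  have hfib : ∀ (y : G) (f : G → ℂ), ∑ z : G, f (z * y * z⁻¹) =
      (Nat.card {g : G // g * y = y * g} : ℂ) * ∑ x ∈ Finset.univ.image (fun z : G => z * y * z⁻¹), f x := by
    intro y f
    rw [← Finset.sum_fiberwise_of_maps_to (g := fun z : G => z * y * z⁻¹)
      (t := Finset.univ.image fun z : G => z * y * z⁻¹)
      (fun z _ => Finset.mem_image_of_mem _ (Finset.mem_univ z)), Finset.mul_sum]
    refine Finset.sum_congr rfl fun x hx => ?_
    rw [Finset.sum_congr rfl (fun z hz => by rw [(Finset.mem_filter.1 hz).2] :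
      ∀ z ∈ Finset.univ.filter (fun z : G => z * y * z⁻¹ = x), f (z * y * z⁻¹) = f x),
      Finset.sum_const, nsmul_eq_mul]
    congr 1
    norm_cast
    obtain ⟨z₀, -, rfl⟩ := Finset.mem_image.1 hx
    rw [Nat.card_eq_fintype_card, Fintype.card_subtype]
    refine Finset.card_bij (fun z _ => z₀⁻¹ * z) ?_ (fun a _ b _ h => mul_left_cancel h) ?_
    · intro z hz
      simp only [Finset.mem_filter, Finset.mem_univ, true_and] at hz ⊢
      calc z₀⁻¹ * z * y = z₀⁻¹ * (z * y * z⁻¹) * z := by group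
        _ = y * (z₀⁻¹ * z) := by rw [hz]; group
    · intro g hg
      simp only [Finset.mem_filter, Finset.mem_univ, true_and] at hg
      refine ⟨z₀ * g, ?_, by group⟩
      simp only [Finset.mem_filter, Finset.mem_univ, true_and]
      calc z₀ * g * y * (z₀ * g)⁻¹ = z₀ * (g * y) * g⁻¹ * z₀⁻¹ := by group
        _ = z₀ * y * z₀⁻¹ := by rw [hg]; group
  set C : Finset G := Finset.univ.image fun z : G => z * i * z⁻¹ with hC
  set C' : Finset G := Finset.univ.image fun z : G => z * i' * z⁻¹ with hC'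
  have hsq : ∀ y : G, y ^ 2 = 1 → ∀ x ∈ Finset.univ.image (fun z : G => z * y * z⁻¹), x * x = 1 := by
    intro y hy x hx
    obtain ⟨z, -, rfl⟩ := Finset.mem_image.1 hx
    rw [show z * y * z⁻¹ * (z * y * z⁻¹) = z * (y * y) * z⁻¹ by group, ← sq, hy]; group
  have hsub : ∀ (y : G) (U : Finset K), (∀ m : K, m ∈ U ↔ IsConj y (S.j m)) →
      U.image S.j ⊆ Finset.univ.image (fun z : G => z * y * z⁻¹) := by
    intro y U hU x hx
    obtain ⟨m, hm, rfl⟩ := Finset.mem_image.1 hx
    obtain ⟨z, hz⟩ := isConj_iff.1 ((hU m).1 hm)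
    exact Finset.mem_image.2 ⟨z, Finset.mem_univ _, hz⟩
  have hin : ∀ x ∈ C, ∀ y ∈ C', S.ext θ (x * y) ≠ 0 → x ∈ T.image S.j ∧ y ∈ T'.image S.j := by
    intro x hx y hy hne
    have hmem : x * y ∈ S.j.range := by
      by_contra h; exact hne (S.ext_of_not_mem θ h)
    obtain ⟨m, hm⟩ := hmem
    have hθm : θ m ≠ 0 := by
      intro h; apply hne; rw [← hm, S.ext_j, h, Int.cast_zero]
    have hxinv : x * S.j m * x⁻¹ ∈ S.j.range := by
      refine ⟨m⁻¹, ?_⟩
      rw [map_inv, hm, mul_inv_rev, inv_eq_of_mul_eq_one_right (hsq i hi x hx),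
        inv_eq_of_mul_eq_one_right (hsq i' hi' y hy), ← mul_assoc x x y, hsq i hi x hx, one_mul]
    obtain ⟨k, hk⟩ := S.ti m (by_contra fun e => hθm (hθ.supp m e)) x hxinv
    have hy' : S.j (k⁻¹ * m) = y := by
      rw [map_mul, map_inv, hk, hm, inv_mul_cancel_left]
    constructor
    · refine Finset.mem_image.2 ⟨k, (hT k).2 ?_, hk⟩
      obtain ⟨z, -, hz⟩ := Finset.mem_image.1 hx
      exact isConj_iff.2 ⟨z, hz.trans hk.symm⟩
    · refine Finset.mem_image.2 ⟨k⁻¹ * m, (hT' _).2 ?_, hy'⟩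
      obtain ⟨z, -, hz⟩ := Finset.mem_image.1 hy
      exact isConj_iff.2 ⟨z, hz.trans hy'.symm⟩
  have h3 : ∑ z : G, ∑ a : G, S.ext θ ((z * i * z⁻¹) * (a * i' * a⁻¹)) =
      (Nat.card {g : G // g * i = i * g} : ℂ) * (Nat.card {g : G // g * i' = i' * g} : ℂ) *
        (count T T' θ : ℂ) := by
    rw [hfib i (fun x => ∑ a : G, S.ext θ (x * (a * i' * a⁻¹))),
      Finset.sum_congr rfl (fun x _ => hfib i' (fun y => S.ext θ (x * y))), ← Finset.mul_sum, ← mul_assoc,
      ← hC, ← hC']
    congr 1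
    rw [← Finset.sum_subset (hsub i T hT) (fun x hx hxT => Finset.sum_eq_zero fun y hy =>
      by_contra fun hne => hxT (hin x hx y hy hne).1), Finset.sum_image (fun a _ b _ h => S.inj h), count]
    push_cast
    refine Finset.sum_congr rfl fun x hx => ?_
    rw [← Finset.sum_subset (hsub i' T' hT') (fun y hy hyT => by_contra fun hne =>
      hyT (hin (S.j x) (hsub i T hT (Finset.mem_image.2 ⟨x, hx, rfl⟩)) y hy hne).2),
      Finset.sum_image (fun a _ b _ h => S.inj h)]
    exact Finset.sum_congr rfl fun y _ => by rw [← map_mul, S.ext_j]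
  rw [h1, h2, h3]
  field_simp

end Config

end H6.Three
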