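import Cfsg.Agent.H6.Three.Linear

/-!
A self-centralising subgroup of order nine with dihedral automizer gives the configuration.
-/

set_option autoImplicit false
set_option linter.all false

open Cfsg

namespace H6.Three

universe u

/-- Hypotheses: `M` elementary abelian of order nine, self-centralising, with an embedded dihedral group of
order eight in its normaliser of order 72, and centralisers of nonidentity elements inside the normaliser. -/
structure DihedralHyp (G : Type u) [Group G] (M : Subgroup G) where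
  card9 : Nat.card M = 9
  exp3 : ∀ m ∈ M, m ^ 3 = 1
  selfCent : Subgroup.centralizer (M : Set G) ≤ M
  φ : DihedralGroup 4 →* G
  φ_inj : Function.Injective φ
  φ_norm : ∀ d, φ d ∈ Subgroup.normalizer (M : Set G)
  card72 : Nat.card (Subgroup.normalizer (M : Set G)) = 72
  cent : ∀ m ∈ M, m ≠ 1 → Subgroup.centralizer ({m} : Set G) ≤ Subgroup.normalizer (M : Set G)

theorem pow_val_add {G : Type u} [Group G] {x : G} (hx : x ^ 3 = 1) (i j : ZMod 3) :
    x ^ (i + j).val = x ^ i.val * x ^ j.val := by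
  rw [ZMod.val_add, ← pow_add]
  conv_rhs => rw [← Nat.mod_add_div (i.val + j.val) 3, pow_add, pow_mul, hx, one_pow, mul_one]

theorem pow_val_neg {G : Type u} [Group G] {x : G} (hx : x ^ 3 = 1) (i : ZMod 3) :
    x ^ (-i).val = (x ^ i.val)⁻¹ := by
  apply eq_inv_of_mul_eq_one_left
  rw [← pow_val_add hx, neg_add_cancel, ZMod.val_zero, pow_zero]

/-- A homomorphism from the dihedral group of order six. -/
def d3Hom {G : Type u} [Group G] (x u : G) (hx : x ^ 3 = 1) (hu : u * u = 1) (hux : u * x * u⁻¹ = x⁻¹) :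
    D3 →* G where
  toFun g := match g with
    | .r i => x ^ i.val
    | .sr i => u * x ^ i.val
  map_one' := by show x ^ (0 : ZMod 3).val = 1; simp
  map_mul' := by
    have hc : ∀ i : ZMod 3, x ^ i.val * u = u * x ^ (-i).val := by
      intro i
      rw [pow_val_neg hx, ← inv_pow, ← hux, conj_pow, ← mul_assoc, ← mul_assoc, hu, one_mul,
        inv_eq_of_mul_eq_one_right hu]
    rintro (i | i) (j | j)
    · show x ^ (i + j).val = x ^ i.val * x ^ j.val
      exact pow_val_add hx i j
    · show u * x ^ (j - i).val = x ^ i.val * (u * x ^ j.val)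
      rw [← mul_assoc, hc, mul_assoc, ← pow_val_add hx]
      congr 3; ring
    · show u * x ^ (i + j).val = u * x ^ i.val * x ^ j.val
      rw [mul_assoc, ← pow_val_add hx]
    · show x ^ (j - i).val = u * x ^ i.val * (u * x ^ j.val)
      rw [mul_assoc u, ← mul_assoc (x ^ i.val), hc, mul_assoc u, ← mul_assoc u, hu, one_mul, ← pow_val_add hx]
      congr 2; ring

def transl (i j : ZMod 3) : K := ⟨.r i, .r j, false⟩

theorem kernel_test : ∀ k : K, k ≠ 1 → (∃ i j : ZMod 3, (i ≠ 0 ∨ j ≠ 0) ∧ k = transl i j) ∨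
    ∃ g : K, ∃ i j : ZMod 3, (i ≠ 0 ∨ j ≠ 0) ∧ k * g * k⁻¹ * g⁻¹ = transl i j := by decide +kernel

theorem spec_transl : ∀ m : K, Spec m → ∃ i j : ZMod 3, (i ≠ 0 ∨ j ≠ 0) ∧ m ^ 4 = transl i j := by
  decide +kernel

namespace DihedralHyp

variable {G : Type u} [Group G] [Finite G] {M : Subgroup G} (h : DihedralHyp G M)

include h in
theorem comm {a b : G} (ha : a ∈ M) (hb : b ∈ M) : a * b = b * a := by
  haveI : Fact (Nat.Prime 3) := ⟨Nat.prime_three⟩
  have := IsPGroup.commutative_of_card_eq_prime_sq (p := 3) (G := M) (by rw [h.card9]; norm_num)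
  exact congrArg Subtype.val (this ⟨a, ha⟩ ⟨b, hb⟩)

include h in
theorem inv_eq_self {a : G} (ha : a ∈ M) (he : a⁻¹ = a) : a = 1 := by
  have h2 : a ^ 2 = 1 := by rw [sq]; nth_rewrite 1 [← he]; exact inv_mul_cancel a
  have h3 := h.exp3 a ha
  rw [pow_succ, h2, one_mul] at h3
  exact h3

include h in
theorem line_eq {F : Subgroup G} (hF : F ≤ M) (hne : F ≠ M) {y : G} (hy : y ∈ F) (hy1 : y ≠ 1) :
    F = Subgroup.zpowers y := by
  have h3 : Nat.card (Subgroup.zpowers y) = 3 := by
    haveI : Fact (Nat.Prime 3) := ⟨Nat.prime_three⟩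
    rw [Nat.card_zpowers, orderOf_eq_prime (h.exp3 y (hF hy)) hy1]
  have hd : Nat.card F ∣ 3 ^ 2 := by
    rw [show 3 ^ 2 = Nat.card M by rw [h.card9]; norm_num]
    exact Subgroup.card_dvd_of_le hF
  obtain ⟨k, hk, hk'⟩ := (Nat.dvd_prime_pow Nat.prime_three).1 hd
  refine (Subgroup.eq_of_le_of_card_ge (Subgroup.zpowers_le.2 hy) ?_).symm
  rw [h3, hk']
  interval_cases k
  · norm_num
  · norm_num
  · exact absurd (Subgroup.eq_of_le_of_card_ge hF (by rw [hk', h.card9]; norm_num)) hne

include h in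
theorem zpowers_cases {y z : G} (hy : y ∈ M) (hy1 : y ≠ 1) (hz : z ∈ Subgroup.zpowers y) (hz1 : z ≠ 1) :
    z = y ∨ z = y⁻¹ := by
  obtain ⟨k, rfl⟩ := Subgroup.mem_zpowers_iff.1 hz
  have e : y ^ k = y ^ (k % 3) := by
    conv_lhs => rw [← Int.emod_add_mul_ediv k 3, zpow_add, zpow_mul, show y ^ (3 : ℤ) = 1 by
      rw [show (3 : ℤ) = ((3 : ℕ) : ℤ) by rfl, zpow_natCast]; exact h.exp3 y hy, one_zpow, mul_one]
  rcases (show k % 3 = 0 ∨ k % 3 = 1 ∨ k % 3 = 2 by omega) with r | r | r <;> rw [r] at e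
  · exact absurd (by rw [e, zpow_zero]) hz1
  · left; rw [e, zpow_one]
  · right
    rw [e, show (2 : ℤ) = ((2 : ℕ) : ℤ) by rfl, zpow_natCast]
    apply eq_inv_of_mul_eq_one_left
    rw [← pow_succ]; exact h.exp3 y hy

/-- The subgroup of `M` fixed by conjugation with `g`. -/
def fixedIn (_hh : DihedralHyp G M) (g : G) : Subgroup G where
  carrier := {z | z ∈ M ∧ g * z * g⁻¹ = z}
  one_mem' := ⟨M.one_mem, by simp⟩
  mul_mem' := fun {a b} ha hb => ⟨M.mul_mem ha.1 hb.1, by rw [← conj_mul, ha.2, hb.2]⟩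
  inv_mem' := fun {a} ha => ⟨M.inv_mem ha.1, by rw [← conj_inv, ha.2]⟩

/-- The subgroup of `M` inverted by conjugation with `g`. -/
def invertedIn (hh : DihedralHyp G M) (g : G) : Subgroup G where
  carrier := {z | z ∈ M ∧ g * z * g⁻¹ = z⁻¹}
  one_mem' := ⟨M.one_mem, by simp⟩
  mul_mem' := fun {a b} ha hb => ⟨M.mul_mem ha.1 hb.1, by
    rw [← conj_mul, ha.2, hb.2, mul_inv_rev, hh.comm (M.inv_mem ha.1) (M.inv_mem hb.1)]⟩
  inv_mem' := fun {a} ha => ⟨M.inv_mem ha.1, by rw [← conj_inv, ha.2]⟩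

include h in
/-- An eigenbasis for the reflections. -/
theorem exists_axis : ∃ y ∈ M, y ≠ 1 ∧ h.φ (.sr 0) * y * (h.φ (.sr 0))⁻¹ = y ∧
    h.φ (.sr 2) * y * (h.φ (.sr 2))⁻¹ = y⁻¹ := by
  classical
  haveI : Fact (Nat.Prime 3) := ⟨Nat.prime_three⟩
  set u := h.φ (.sr 0) with hu
  set v := h.φ (.sr 2) with hv
  have huu : u * u = 1 := by
    rw [hu, ← map_mul, show (DihedralGroup.sr 0 : DihedralGroup 4) * .sr 0 = 1 by decide, map_one]
  have hvv : v * v = 1 := by
    rw [hv, ← map_mul, show (DihedralGroup.sr 2 : DihedralGroup 4) * .sr 2 = 1 by decide, map_one]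
  have huv : u * v = v * u := by
    rw [hu, hv, ← map_mul, ← map_mul]; congr 1
  have hmem : ∀ d, ∀ m ∈ M, h.φ d * m * (h.φ d)⁻¹ ∈ M := fun d m hm =>
    (Subgroup.mem_normalizer_iff.1 (h.φ_norm d) m).1 hm
  have faith : ∀ d, (∀ m ∈ M, h.φ d * m * (h.φ d)⁻¹ = m) → d = 1 := by
    intro d hd
    have hc : h.φ d ∈ Subgroup.centralizer (M : Set G) := Subgroup.mem_centralizer_iff.2 fun m hm => by
      calc m * h.φ d = (h.φ d * m * (h.φ d)⁻¹) * h.φ d := by rw [hd m hm]
        _ = h.φ d * m := by group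
    have h3 : h.φ (d ^ 3) = h.φ 1 := by rw [map_pow, map_one]; exact h.exp3 _ (h.selfCent hc)
    have : ∀ e : DihedralGroup 4, e ^ 3 = 1 → e = 1 := by decide
    exact this d (h.φ_inj h3)
  have uinv : ∀ z : G, u * (u * z * u⁻¹) * u⁻¹ = z := fun z => by
    rw [inv_eq_of_mul_eq_one_right huu, ← mul_assoc, ← mul_assoc, huu, one_mul, mul_assoc, huu, mul_one]
  -- fixed and inverted elements of `u`
  have hsplit : ∀ m ∈ M, u * (m * (u * m * u⁻¹)) * u⁻¹ = m * (u * m * u⁻¹) ∧
      u * (m * (u * m * u⁻¹)⁻¹) * u⁻¹ = (m * (u * m * u⁻¹)⁻¹)⁻¹ := by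
    intro m hm
    constructor
    · rw [show u * (m * (u * m * u⁻¹)) * u⁻¹ = (u * m * u⁻¹) * (u * (u * m * u⁻¹) * u⁻¹) by group, uinv]
      exact h.comm (hmem _ m hm) hm
    · rw [show u * (m * (u * m * u⁻¹)⁻¹) * u⁻¹ = (u * m * u⁻¹) * (u * (u * m * u⁻¹) * u⁻¹)⁻¹ by group, uinv]
      group
  have hfix : ∃ y ∈ M, y ≠ 1 ∧ u * y * u⁻¹ = y := by
    by_contra hno
    simp only [not_exists, not_and] at hno
    have hall : ∀ m ∈ M, u * m * u⁻¹ = m⁻¹ := by
      intro m hm
      by_contra hne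
      refine hno _ (M.mul_mem hm (hmem _ m hm)) (fun e => hne ?_) (hsplit m hm).1
      exact (inv_eq_of_mul_eq_one_right e).symm
    -- then `u` commutes with the rotation on `M`
    have key : (.r 2 : DihedralGroup 4) = 1 := by
      refine faith _ fun m hm => ?_
      rw [show (DihedralGroup.r 2 : DihedralGroup 4) = .sr 0 * .r 1 * .sr 0 * .r 3 by decide, map_mul, map_mul,
        map_mul, ← hu]
      set t := h.φ (.r 1) with ht
      have h3 : h.φ (.r 3) = t⁻¹ := by rw [ht, ← map_inv]; congr 1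
      rw [h3]
      have hm' : t⁻¹ * m * t⁻¹⁻¹ ∈ M := by rw [← h3]; exact hmem _ m hm
      have h4 : t * (t⁻¹ * m * t⁻¹⁻¹)⁻¹ * t⁻¹ = m⁻¹ := by group
      calc u * t * u * t⁻¹ * m * (u * t * u * t⁻¹)⁻¹
          = u * (t * (u * (t⁻¹ * m * t⁻¹⁻¹) * u⁻¹) * t⁻¹) * u⁻¹ := by group
        _ = m := by rw [hall _ hm', h4, hall _ (M.inv_mem hm), inv_inv]
    exact absurd key (by decide)
  obtain ⟨y, hy, hy1, huy⟩ := hfix
  refine ⟨y, hy, hy1, huy, ?_⟩
  -- the inverted line
  obtain ⟨m, hm, hmne⟩ : ∃ m ∈ M, u * m * u⁻¹ ≠ m := by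
    by_contra hno
    push Not at hno
    exact absurd (faith (.sr 0) hno) (by decide)
  set x := m * (u * m * u⁻¹)⁻¹ with hx
  have hxM : x ∈ M := M.mul_mem hm (M.inv_mem (hmem _ m hm))
  have hux : u * x * u⁻¹ = x⁻¹ := (hsplit m hm).2
  have hx1 : x ≠ 1 := fun e => hmne (mul_inv_eq_one.1 e).symm
  have hyF : y ∈ h.fixedIn u := ⟨hy, huy⟩
  have hxI : x ∈ h.invertedIn u := ⟨hxM, hux⟩
  have hFne : h.fixedIn u ≠ M := fun e => hx1 (h.inv_eq_self hxM (by
    have := (e.symm ▸ hxM : x ∈ h.fixedIn u).2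
    rw [← hux, this]))
  have hIne : h.invertedIn u ≠ M := fun e => hy1 (h.inv_eq_self hy (by
    have := (e.symm ▸ hy : y ∈ h.invertedIn u).2
    rw [← this, huy]))
  have hFy := h.line_eq (F := h.fixedIn u) (fun z hz => hz.1) hFne hyF hy1
  have hIx := h.line_eq (F := h.invertedIn u) (fun z hz => hz.1) hIne hxI hx1
  have hswap : ∀ z, u * (v * z * v⁻¹) * u⁻¹ = v * (u * z * u⁻¹) * v⁻¹ := fun z => by
    calc u * (v * z * v⁻¹) * u⁻¹ = (u * v) * z * (u * v)⁻¹ := by group
      _ = (v * u) * z * (v * u)⁻¹ := by rw [huv]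
      _ = _ := by group
  have hvy : v * y * v⁻¹ ∈ Subgroup.zpowers y := by
    rw [← hFy]; exact ⟨hmem _ y hy, by rw [hswap, huy]⟩
  have hvx : v * x * v⁻¹ ∈ Subgroup.zpowers x := by
    rw [← hIx]; exact ⟨hmem _ x hxM, by rw [hswap, hux]; group⟩
  have hall : ∀ d, h.φ d * y * (h.φ d)⁻¹ = y → h.φ d * x * (h.φ d)⁻¹ = x → d = 1 := by
    intro d dy dx
    refine faith d fun m hm => ?_
    have : h.fixedIn (h.φ d) = M := by
      by_contra e
      have e1 := h.line_eq (F := h.fixedIn (h.φ d)) (fun z hz => hz.1) e (⟨hy, dy⟩ : y ∈ h.fixedIn (h.φ d)) hy1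
      have : x ∈ Subgroup.zpowers y := by rw [← e1]; exact ⟨hxM, dx⟩
      rw [← hFy] at this
      exact hx1 (h.inv_eq_self hxM (by rw [← hux, this.2]))
    exact (this.symm ▸ hm : m ∈ h.fixedIn (h.φ d)).2
  rcases h.zpowers_cases hy hy1 hvy (fun e => hy1 (conj_eq_one_iff.1 e)) with e | e
  · exfalso
    rcases h.zpowers_cases hxM hx1 hvx (fun e => hx1 (conj_eq_one_iff.1 e)) with e' | e'
    · exact absurd (hall (.sr 2) e e') (by decide)
    · refine absurd (hall (.sr 0 * .sr 2) ?_ ?_) (by decide)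
      · rw [map_mul, ← hu, ← hv, show u * v * y * (u * v)⁻¹ = u * (v * y * v⁻¹) * u⁻¹ by group, e, huy]
      · rw [map_mul, ← hu, ← hv, show u * v * x * (u * v)⁻¹ = u * (v * x * v⁻¹) * u⁻¹ by group, e',
          show u * x⁻¹ * u⁻¹ = (u * x * u⁻¹)⁻¹ by group, hux, inv_inv]
  · exact e

include h in
theorem exists_config [Fintype G] :
    ∃ S : Config G, S.j.range = Subgroup.normalizer (M : Set G) ∧ S.j u₀ = h.φ (.sr 0) ∧ S.j w₀ = h.φ (.sr 1) := by
  classical
  obtain ⟨y, hy, hy1, huy, hvy⟩ := h.exists_axis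
  set u := h.φ (.sr 0) with hu
  set v := h.φ (.sr 2) with hv
  set w := h.φ (.sr 1) with hw
  have sq : ∀ i : ZMod 4, h.φ (.sr i) * h.φ (.sr i) = 1 := fun i => by
    rw [← map_mul]; simp
  have huu : u * u = 1 := sq 0
  have hvv : v * v = 1 := sq 2
  have hww : w * w = 1 := sq 1
  have hwi : w⁻¹ = w := inv_eq_of_mul_eq_one_right hww
  have hwu : w * u * w⁻¹ = v := by
    rw [hu, hv, hw, ← map_inv, ← map_mul, ← map_mul]; exact congrArg h.φ (by decide)
  have hwv : w * v * w⁻¹ = u := by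
    rw [hu, hv, hw, ← map_inv, ← map_mul, ← map_mul]; exact congrArg h.φ (by decide)
  have huv : u * v = v * u := by
    rw [hu, hv, ← map_mul, ← map_mul]; exact congrArg h.φ (by decide)
  set x := w * y * w⁻¹ with hx
  have hxM : x ∈ M := (Subgroup.mem_normalizer_iff.1 (h.φ_norm _) y).1 hy
  have hwx : w * x * w⁻¹ = y := by
    rw [hx, show w * (w * y * w⁻¹) * w⁻¹ = (w * w) * y * (w * w)⁻¹ by group, hww]; group
  have hux : u * x * u⁻¹ = x⁻¹ := by
    have e : u * w = w * v := by
      calc u * w = (w * v * w⁻¹) * w := by rw [hwv]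
        _ = w * v := by group
    rw [hx, show u * (w * y * w⁻¹) * u⁻¹ = (u * w) * y * (u * w)⁻¹ by group, e,
      show w * v * y * (w * v)⁻¹ = w * (v * y * v⁻¹) * w⁻¹ by group, hvy]
    group
  have hvx : v * x * v⁻¹ = x := by
    have e : v * w = w * u := by
      calc v * w = (w * u * w⁻¹) * w := by rw [hwu]
        _ = w * u := by group
    rw [hx, show v * (w * y * w⁻¹) * v⁻¹ = (v * w) * y * (v * w)⁻¹ by group, e,
      show w * u * y * (w * u)⁻¹ = w * (u * y * u⁻¹) * w⁻¹ by group, huy]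
  let fA := d3Hom x u (h.exp3 x hxM) huu hux
  let fB := d3Hom y v (h.exp3 y hy) hvv hvy
  have hxy : x * y = y * x := h.comm hxM hy
  have cuy : Commute u y := by
    show u * y = y * u
    calc u * y = (u * y * u⁻¹) * u := by group
      _ = y * u := by rw [huy]
  have cxv : Commute x v := by
    show x * v = v * x
    calc x * v = (v * x * v⁻¹) * v := by rw [hvx]
      _ = v * x := by group
  have hcomm : ∀ a b, Commute (fA a) (fB b) := by
    rintro (i | i) (j | j)
    · exact (Commute.pow_pow (show Commute x y from hxy) _ _)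
    · exact (cxv.pow_left _).mul_right (Commute.pow_pow (show Commute x y from hxy) _ _)
    · exact (cuy.pow_right _).mul_left (Commute.pow_pow (show Commute x y from hxy) _ _)
    · exact ((show Commute u v from huv).mul_right (cuy.pow_right _)).mul_left
        ((cxv.pow_left _).mul_right (Commute.pow_pow (show Commute x y from hxy) _ _))
  have hwA : ∀ a, w * fA a * w⁻¹ = fB a := by
    rintro (i | i)
    · show w * x ^ i.val * w⁻¹ = y ^ i.val
      rw [← conj_pow, hwx]
    · show w * (u * x ^ i.val) * w⁻¹ = v * y ^ i.val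
      rw [show w * (u * x ^ i.val) * w⁻¹ = (w * u * w⁻¹) * (w * x ^ i.val * w⁻¹) by group, hwu, ← conj_pow, hwx]
  have hwB : ∀ a, w * fB a * w⁻¹ = fA a := by
    intro a
    rw [← hwA a, show w * (w * fA a * w⁻¹) * w⁻¹ = (w * w) * fA a * (w * w)⁻¹ by group, hww]; group
  let F : K →* G :=
    { toFun := fun k => fA k.a * fB k.b * (bif k.w then w else 1)
      map_one' := by simp [K.one_def]
      map_mul' := by
        rintro ⟨a, b, e⟩ ⟨c, d, e'⟩
        cases e
        · simp only [K.mul_def, cond_false, map_mul, mul_one]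
          calc fA a * fA c * (fB b * fB d) * (bif e' then w else 1)
              = fA a * (fA c * fB b) * fB d * (bif e' then w else 1) := by group
            _ = fA a * (fB b * fA c) * fB d * (bif e' then w else 1) := by rw [(hcomm c b).eq]
            _ = _ := by group
        · simp only [K.mul_def, cond_true, map_mul]
          have hwd : w * (fA c * fB d) = fA d * fB c * w := by
            calc w * (fA c * fB d) = (w * fA c * w⁻¹) * (w * fB d * w⁻¹) * w := by group
              _ = fB c * fA d * w := by rw [hwA, hwB]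
              _ = fA d * fB c * w := by rw [(hcomm d c).eq]
          calc fA a * fA d * (fB b * fB c) * (bif !e' then w else 1)
              = fA a * (fA d * fB b) * fB c * (bif !e' then w else 1) := by group
            _ = fA a * (fB b * fA d) * fB c * (bif !e' then w else 1) := by rw [(hcomm d b).eq]
            _ = fA a * fB b * (fA d * fB c * w) * (bif e' then w else 1) := by
                cases e'
                · simp only [Bool.not_false, cond_true, cond_false]; group
                · simp only [Bool.not_true, cond_true, cond_false]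
                  rw [mul_assoc _ (fA d * fB c * w) w, mul_assoc (fA d * fB c) w w, hww]; group
            _ = fA a * fB b * w * (fA c * fB d * (bif e' then w else 1)) := by rw [← hwd]; group }
  have hF : ∀ i j, F (transl i j) = x ^ i.val * y ^ j.val := fun i j => by
    show x ^ i.val * y ^ j.val * 1 = _
    rw [mul_one]
  have htr : ∀ i j, (i ≠ 0 ∨ j ≠ 0) → F (transl i j) ≠ 1 := by
    intro i j hij e
    rw [hF] at e
    have e2 : u * (x ^ i.val * y ^ j.val) * u⁻¹ = (x ^ i.val)⁻¹ * y ^ j.val := by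
      rw [← conj_mul, ← conj_pow, ← conj_pow, hux, huy, inv_pow]
    rw [e, mul_one, mul_inv_cancel] at e2
    have ei : x ^ i.val = (x ^ i.val)⁻¹ := by
      have : x ^ i.val * y ^ j.val = (x ^ i.val)⁻¹ * y ^ j.val := e.trans e2
      exact mul_right_cancel this
    have ei' : x ^ i.val = 1 := h.inv_eq_self (M.pow_mem hxM _) ei.symm
    have ej : y ^ j.val = 1 := by rwa [ei', one_mul] at e
    have hval : ∀ (z : G) (k : ZMod 3), z ∈ M → z ≠ 1 → z ^ k.val = 1 → k = 0 := by
      intro z k hz hz1 hk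
      haveI : Fact (Nat.Prime 3) := ⟨Nat.prime_three⟩
      have := orderOf_dvd_of_pow_eq_one hk
      rw [orderOf_eq_prime (h.exp3 z hz) hz1] at this
      exact (ZMod.val_eq_zero k).1 (Nat.eq_zero_of_dvd_of_lt this (ZMod.val_lt k))
    rcases hij with hi | hj
    · exact hi (hval x i hxM (fun e => hy1 (conj_eq_one_iff.1 e)) ei')
    · exact hj (hval y j hy hy1 ej)
  have hinj : Function.Injective F := by
    refine (injective_iff_map_eq_one F).2 fun k hk => ?_
    by_contra hne
    rcases kernel_test k hne with ⟨i, j, hij, rfl⟩ | ⟨g, i, j, hij, e⟩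
    · exact htr i j hij hk
    · apply htr i j hij
      rw [← e, map_mul, map_mul, map_mul, hk, map_inv, map_inv, hk]
      group
  have hle : F.range ≤ Subgroup.normalizer (M : Set G) := by
    rintro _ ⟨k, rfl⟩
    have hA : ∀ a, fA a ∈ Subgroup.normalizer (M : Set G) := by
      rintro (i | i)
      · exact Subgroup.le_normalizer (M.pow_mem hxM _)
      · exact Subgroup.mul_mem _ (h.φ_norm _) (Subgroup.le_normalizer (M.pow_mem hxM _))
    have hB : ∀ a, fB a ∈ Subgroup.normalizer (M : Set G) := by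
      rintro (i | i)
      · exact Subgroup.le_normalizer (M.pow_mem hy _)
      · exact Subgroup.mul_mem _ (h.φ_norm _) (Subgroup.le_normalizer (M.pow_mem hy _))
    refine Subgroup.mul_mem _ (Subgroup.mul_mem _ (hA _) (hB _)) ?_
    cases k.w
    · exact Subgroup.one_mem _
    · exact h.φ_norm _
  have hrange : F.range = Subgroup.normalizer (M : Set G) := by
    refine Subgroup.eq_of_le_of_card_ge hle ?_
    rw [h.card72, Nat.card_congr (MonoidHom.ofInjective hinj).symm.toEquiv, Config.natCard_K]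
  have hthree : ∀ g ∈ Subgroup.normalizer (M : Set G), g ^ 3 = 1 → g ∈ M := by
    intro g hg hg3
    rw [← hrange] at hg
    obtain ⟨k, rfl⟩ := hg
    have hk : k ^ 3 = 1 := hinj (by rw [map_pow, map_one]; exact hg3)
    have : ∀ k : K, k ^ 3 = 1 → ∃ i j, k = transl i j := by decide +kernel
    obtain ⟨i, j, rfl⟩ := this k hk
    rw [hF]; exact M.mul_mem (M.pow_mem hxM _) (M.pow_mem hy _)
  refine ⟨{ j := F, inj := hinj, ti := ?_ }, hrange, ?_, ?_⟩
  · intro m hm g hg
    rw [hrange] at hg ⊢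
    obtain ⟨i, j, hij, e⟩ := spec_transl m hm
    set a := F (transl i j) with ha
    have haM : a ∈ M := by rw [ha, hF]; exact M.mul_mem (M.pow_mem hxM _) (M.pow_mem hy _)
    have ha1 : a ≠ 1 := htr i j hij
    set b := g * a * g⁻¹ with hb
    have hbN : b ∈ Subgroup.normalizer (M : Set G) := by
      rw [hb, ha, ← e, map_pow, ← conj_pow]
      exact Subgroup.pow_mem _ hg _
    have hbM : b ∈ M := hthree b hbN (by rw [hb, conj_pow, h.exp3 a haM]; simp)
    have hb1 : b ≠ 1 := fun e' => ha1 (conj_eq_one_iff.1 e')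
    refine (Subgroup.mem_normalizer_iff).2 ?_
    have hfwd : ∀ z ∈ M, g * z * g⁻¹ ∈ M := by
      intro z hz
      refine hthree _ (h.cent b hbM hb1 (Subgroup.mem_centralizer_singleton_iff.2 ?_)) ?_
      · rw [hb, show g * z * g⁻¹ * (g * a * g⁻¹) = g * (z * a) * g⁻¹ by group, h.comm hz haM]
        group
      · rw [conj_pow, h.exp3 z hz]; simp
    intro z
    refine ⟨hfwd z, fun hz => ?_⟩
    have hmap : M.map (MulAut.conj g).toMonoidHom = M := by
      refine Subgroup.eq_of_le_of_card_ge ?_ ?_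
      · rintro _ ⟨z, hz, rfl⟩
        exact hfwd z hz
      · rw [Subgroup.card_map_of_injective (MulEquiv.injective _)]
    rw [← hmap] at hz
    obtain ⟨z', hz', e'⟩ := hz
    have : z' = z := (MulAut.conj g).injective e'
    rwa [← this]
  · show fA (.sr 0) * fB 1 * 1 = u
    rw [map_one, mul_one, mul_one]
    show u * x ^ (0 : ZMod 3).val = u
    simp
  · show fA 1 * fB 1 * w = w
    rw [map_one, map_one, one_mul, one_mul]

include h in
/-- A linear character equal to `-1` on the noncentral involutions of the automizer. -/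
theorem exists_linear [Fintype G] :
    ∃ f : G →* ℂˣ, f (h.φ (.sr 0)) = -1 ∧ f (h.φ (.sr 1)) = -1 := by
  obtain ⟨S, -, hu, hw⟩ := h.exists_config
  obtain ⟨f, a, b⟩ := S.exists_linear
  exact ⟨f, hu ▸ a, hw ▸ b⟩

include h in
theorem not_simple : ¬ IsSimpleGroup G := by
  intro hs
  haveI := Fintype.ofFinite G
  obtain ⟨f, a, -⟩ := h.exists_linear
  have hne : f.ker ≠ ⊤ := fun e => by
    have : f (h.φ (.sr 0)) = 1 := MonoidHom.mem_ker.1 (e ▸ Subgroup.mem_top _)
    rw [a] at this
    exact absurd (congrArg Units.val this) (by norm_num)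
  have hker : f.ker = ⊥ := ((MonoidHom.normal_ker f).eq_bot_or_eq_top).resolve_right hne
  have hinj : Function.Injective f := (MonoidHom.ker_eq_bot_iff f).1 hker
  have : (DihedralGroup.sr 0 : DihedralGroup 4) * .r 1 = .r 1 * .sr 0 :=
    h.φ_inj (hinj (by rw [map_mul, map_mul, map_mul, map_mul]; exact mul_comm _ _))
  exact absurd this (by decide)

end DihedralHyp

end H6.Three
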