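import Cfsg.Agent.H6.Three.Roles

/-!
In the pattern of the symmetric group of degree six the character with coefficients `(0, 0, 1, 1)` has
degree one.
-/

set_option autoImplicit false
set_option linter.all false

namespace H6.Three

universe u

theorem frame_one {R a a0 a2 a4 a6 U0 W0 U2 W2 U4 W4 U6 W6 : ℚ} (hR : R ≠ 0) (ha : a ≠ 0)
    (pA0 : 2 * U0 ^ 2 + W0 ^ 2 = R * (a + a0)) (pB0 : U0 ^ 2 + 2 * W0 ^ 2 = R * (a + a0))
    (pA2 : 2 * U2 ^ 2 + W2 ^ 2 = R * (a + a2)) (pD2 : U2 ^ 2 + 2 * W2 ^ 2 = R * (a + a2))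
    (pB4 : U4 ^ 2 + 2 * W4 ^ 2 = R * (a + a4)) (pC4 : 2 * U4 ^ 2 + W4 ^ 2 = R * (a + a4))
    (pC6 : 2 * U6 ^ 2 + W6 ^ 2 = R * (a + a6)) (pD6 : U6 ^ 2 + 2 * W6 ^ 2 = R * (a + a6))
    (tA : 2 * U0 * U2 + W0 * W2 = R * a) (tB : U0 * U4 + 2 * W0 * W4 = R * a)
    (tC : 2 * U4 * U6 + W4 * W6 = R * a) (tD : U2 * U6 + 2 * W2 * W6 = R * a) : a6 = a0 := by
  have hRa : R * a ≠ 0 := mul_ne_zero hR ha
  have sg : ∀ (U W x : ℚ), 2 * U ^ 2 + W ^ 2 = R * x → U ^ 2 + 2 * W ^ 2 = R * x →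
      ∃ s : ℚ, (s = 1 ∨ s = -1) ∧ W = s * U := by
    intro U W x h1 h2
    have : (W - U) * (W + U) = 0 := by linear_combination h2 - h1
    rcases mul_eq_zero.1 this with h | h
    · exact ⟨1, Or.inl rfl, by linarith⟩
    · exact ⟨-1, Or.inr rfl, by linarith⟩
  obtain ⟨s, hs, rfl⟩ := sg _ _ _ pA0 pB0
  obtain ⟨t, ht, rfl⟩ := sg _ _ _ pA2 pD2
  obtain ⟨u, hu, rfl⟩ := sg _ _ _ pC4 pB4
  obtain ⟨v, hv, rfl⟩ := sg _ _ _ pC6 pD6
  have n0 : U0 ≠ 0 := fun h => hRa (by rw [← tA, h]; ring)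
  have n2 : U2 ≠ 0 := fun h => hRa (by rw [← tA, h]; ring)
  have n4 : U4 ≠ 0 := fun h => hRa (by rw [← tB, h]; ring)
  have n6 : U6 ≠ 0 := fun h => hRa (by rw [← tC, h]; ring)
  have hAC : ((2 + s * t) * (2 + u * v) - (1 + 2 * s * u) * (1 + 2 * t * v)) * (U0 * U2 * U4 * U6) = 0 := by
    linear_combination (U4 * U6 * (2 + u * v)) * tA + (R * a) * tC
      - (U2 * U6 * (1 + 2 * t * v)) * tB - (R * a) * tD
  have hP : (2 + s * t) * (2 + u * v) - (1 + 2 * s * u) * (1 + 2 * t * v) = 0 :=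
    (mul_eq_zero.1 hAC).resolve_right (by simp [*])
  have hAD : (2 + s * t) * U0 = (1 + 2 * t * v) * U6 := by
    have : U2 * ((2 + s * t) * U0 - (1 + 2 * t * v) * U6) = 0 := by linear_combination tA - tD
    linarith [(mul_eq_zero.1 this).resolve_left n2]
  have h6 : U6 ^ 2 = U0 ^ 2 := by
    rcases hs with rfl | rfl <;> rcases ht with rfl | rfl <;> rcases hu with rfl | rfl <;>
      rcases hv with rfl | rfl <;> norm_num at hP <;> norm_num at hAD <;>
      first | (rw [show U6 = U0 by linarith]) | (rw [show U6 = -U0 by linarith]; ring)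
  have e0 : 3 * U0 ^ 2 = R * (a + a0) := by rcases hs with rfl | rfl <;> linarith
  have e6 : 3 * U6 ^ 2 = R * (a + a6) := by rcases hv with rfl | rfl <;> linarith
  have : R * (a6 - a0) = 0 := by rw [h6] at e6; linarith
  linarith [(mul_eq_zero.1 this).resolve_left hR]

theorem frame_two {R a a0 a2 a4 a6 U0 W0 U2 W2 U4 W4 U6 W6 : ℚ} (hR : R ≠ 0) (ha : a ≠ 0)
    (pA0 : U0 ^ 2 + 8 * W0 ^ 2 = R * (a + a0))
    (pB0 : 8 * U0 ^ 2 - 48 * U0 * W0 + 88 * W0 ^ 2 = R * (a + a0))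
    (pA2 : U2 ^ 2 + 8 * W2 ^ 2 = R * (a + a2))
    (pD2 : 8 * U2 ^ 2 + 48 * U2 * W2 + 88 * W2 ^ 2 = R * (a + a2))
    (pB4 : 8 * U4 ^ 2 - 48 * U4 * W4 + 88 * W4 ^ 2 = R * (a + a4))
    (pC4 : 4 * U4 ^ 2 + 8 * W4 ^ 2 = R * (a + a4))
    (pC6 : 4 * U6 ^ 2 + 8 * W6 ^ 2 = R * (a + a6))
    (pD6 : 8 * U6 ^ 2 + 48 * U6 * W6 + 88 * W6 ^ 2 = R * (a + a6))
    (tA : U0 * U2 + 8 * W0 * W2 = R * a)
    (tB : 8 * U0 * U4 - 24 * (U0 * W4 + U4 * W0) + 88 * W0 * W4 = R * a)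
    (tC : 4 * U4 * U6 + 8 * W4 * W6 = R * a)
    (tD : 8 * U2 * U6 + 24 * (U2 * W6 + U6 * W2) + 88 * W2 * W6 = R * a) :
    a6 = a0 ∨ 81 * (a + a6) = 17 * (a + a0) ∨ 1617 * (a + a6) = 17 * (a + a0) := by
  have hRa : R * a ≠ 0 := mul_ne_zero hR ha
  have h0 : ∃ r : ℚ, (r = 4 ∨ r = 20 / 7) ∧ U0 = r * W0 := by
    have : (U0 - 4 * W0) * (7 * U0 - 20 * W0) = 0 := by linear_combination pB0 - pA0
    rcases mul_eq_zero.1 this with h | h
    · exact ⟨4, Or.inl rfl, by linarith⟩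
    · exact ⟨20 / 7, Or.inr rfl, by linarith⟩
  have h2 : ∃ r : ℚ, (r = -4 ∨ r = -20 / 7) ∧ U2 = r * W2 := by
    have : (U2 + 4 * W2) * (7 * U2 + 20 * W2) = 0 := by linear_combination pD2 - pA2
    rcases mul_eq_zero.1 this with h | h
    · exact ⟨-4, Or.inl rfl, by linarith⟩
    · exact ⟨-20 / 7, Or.inr rfl, by linarith⟩
  have h4 : ∃ r : ℚ, (r = 2 ∨ r = 10) ∧ U4 = r * W4 := by
    have : (U4 - 2 * W4) * (4 * (U4 - 10 * W4)) = 0 := by linear_combination pB4 - pC4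
    rcases mul_eq_zero.1 this with h | h
    · exact ⟨2, Or.inl rfl, by linarith⟩
    · exact ⟨10, Or.inr rfl, by linarith⟩
  have h6 : ∃ r : ℚ, (r = -2 ∨ r = -10) ∧ U6 = r * W6 := by
    have : (U6 + 2 * W6) * (4 * (U6 + 10 * W6)) = 0 := by linear_combination pD6 - pC6
    rcases mul_eq_zero.1 this with h | h
    · exact ⟨-2, Or.inl rfl, by linarith⟩
    · exact ⟨-10, Or.inr rfl, by linarith⟩
  obtain ⟨p, hp, rfl⟩ := h0
  obtain ⟨q, hq, rfl⟩ := h2
  obtain ⟨r, hr, rfl⟩ := h4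
  obtain ⟨s, hs, rfl⟩ := h6
  have n0 : W0 ≠ 0 := fun h => hRa (by rw [← tA, h]; ring)
  have n2 : W2 ≠ 0 := fun h => hRa (by rw [← tA, h]; ring)
  have n4 : W4 ≠ 0 := fun h => hRa (by rw [← tB, h]; ring)
  have n6 : W6 ≠ 0 := fun h => hRa (by rw [← tC, h]; ring)
  have hAC : ((p * q + 8) * (4 * r * s + 8) - (8 * p * r - 24 * (p + r) + 88) * (8 * q * s + 24 * (q + s) + 88)) *
      (W0 * W2 * W4 * W6) = 0 := by
    linear_combination (W4 * W6 * (4 * r * s + 8)) * tA + (R * a) * tC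
      - (W2 * W6 * (8 * q * s + 24 * (q + s) + 88)) * tB - (R * a) * tD
  have hP := (mul_eq_zero.1 hAC).resolve_right (by simp [*])
  have hAD : (p * q + 8) * W0 = (8 * q * s + 24 * (q + s) + 88) * W6 := by
    have : W2 * ((p * q + 8) * W0 - (8 * q * s + 24 * (q + s) + 88) * W6) = 0 := by linear_combination tA - tD
    linarith [(mul_eq_zero.1 this).resolve_left n2]
  have fin : ∀ k m : ℚ, k * (4 * (s * W6) ^ 2 + 8 * W6 ^ 2) = m * ((p * W0) ^ 2 + 8 * W0 ^ 2) →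
      k * (a + a6) = m * (a + a0) := by
    intro k m h
    rw [pC6, pA0] at h
    have : R * (k * (a + a6) - m * (a + a0)) = 0 := by linear_combination h
    linarith [(mul_eq_zero.1 this).resolve_left hR]
  rcases hp with rfl | rfl <;> rcases hq with rfl | rfl <;> rcases hr with rfl | rfl <;>
    rcases hs with rfl | rfl <;> norm_num at hP
  · left
    have : W6 = -W0 := by linarith
    have := fin 1 1 (by subst this; ring)
    linarith
  · right; left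
    have : W6 = -W0 / 9 := by linarith
    exact fin 81 17 (by subst this; ring)
  · left
    have : W6 = -W0 := by linarith
    have := fin 1 1 (by subst this; ring)
    linarith
  · right; right
    have : W6 = -W0 / 49 := by linarith
    exact fin 1617 17 (by subst this; ring)

namespace SVals

variable {ι : Type u} [Fintype ι] {S : SData ι} {f11 f12 f22 g : Fin 4 → ℤ} (T : SVals S f11 f12 f22 g)

/-- The two possible fusion shapes. -/
def ShapeOne (f11 f12 f22 g : Fin 4 → ℤ) : Prop :=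
  f11 = ![36, 72, 36, 72] ∧ f12 = ![0, 0, 0, 0] ∧ f22 = ![72, 36, 72, 36] ∧ g = ![1, 1, 1, 1]

def ShapeTwo (f11 f12 f22 g : Fin 4 → ℤ) : Prop :=
  f11 = ![576, 396, 144, 396] ∧ f12 = ![0, 108, 0, -108] ∧ f22 = ![72, 36, 72, 36] ∧ g = ![4, 1, 2, 1]

include T in
theorem exists_degree_one (h : ShapeOne f11 f12 f22 g ∨ ShapeTwo f11 f12 f22 g) :
    ∃ x, S.D x = 1 ∧ S.c 0 x = 0 ∧ S.c 1 x = 0 ∧ S.c 2 x = 1 ∧ S.c 3 x = 1 := by
  obtain ⟨L⟩ := T.exists_roles
  obtain ⟨q20, q21, q22, q23⟩ := L.r2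
  obtain ⟨q40, q41, q42, q43⟩ := L.r4
  obtain ⟨q60, q61, q62, q63⟩ := L.r6
  have oA : S.c 0 S.o = 1 := by rw [S.co]; rfl
  have oB : S.c 1 S.o = 1 := by rw [S.co]; rfl
  have d10 : L.x1 ≠ S.o := fun e => by have := L.r1 2; rw [e, S.co] at this; simp at this
  have d12 : L.x1 ≠ L.x2 := fun e => by have := L.r1 1; rw [e, q21] at this; simp at this
  have d14 : L.x1 ≠ L.x4 := fun e => by have := L.r1 0; rw [e, q40] at this; simp at this
  have d16 : L.x1 ≠ L.x6 := fun e => by have := L.r1 0; rw [e, q60] at this; simp at this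
  have d02 : S.o ≠ L.x2 := fun e => by rw [← e, oB] at q21; simp at q21
  have d04 : S.o ≠ L.x4 := fun e => by rw [← e, oA] at q40; simp at q40
  have d46 : L.x4 ≠ L.x6 := fun e => by rw [e, q61] at q41; simp at q41
  have d26 : L.x2 ≠ L.x6 := fun e => by rw [e, q60] at q20; simp at q20
  obtain ⟨pA0, tA⟩ := T.pair_eq 0 (L.r1 0) oA q20 d10 d12 d02
  obtain ⟨pA2, -⟩ := T.pair_eq 0 (L.r1 0) q20 oA d12 d10 d02.symm
  obtain ⟨pB0, tB⟩ := T.pair_eq 1 (L.r1 1) oB q41 d10 d14 d04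
  obtain ⟨pB4, -⟩ := T.pair_eq 1 (L.r1 1) q41 oB d14 d10 d04.symm
  obtain ⟨pC4, tC⟩ := T.pair_eq 2 (L.r1 2) q42 q62 d14 d16 d46
  obtain ⟨pC6, -⟩ := T.pair_eq 2 (L.r1 2) q62 q42 d16 d14 d46.symm
  obtain ⟨pD2, tD⟩ := T.pair_eq 3 (L.r1 3) q23 q63 d12 d16 d26
  obtain ⟨pD6, -⟩ := T.pair_eq 3 (L.r1 3) q63 q23 d16 d12 d26.symm
  simp only [S.Do, Int.cast_one, div_one] at pA0 pB0
  have hD : ∀ x, (S.D x : ℚ) ≠ 0 := fun x => by exact_mod_cast S.Dne x
  have ha : (1 : ℚ) / S.D L.x1 ≠ 0 := one_div_ne_zero (hD _)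
  have hK := T.hK
  have m6 : (9 : ℤ) ∣ S.D L.x6 - 10 := by have := S.deg L.x6; rw [q60, q61, q62, q63] at this; simpa using this
  have m1 : (9 : ℤ) ∣ S.D L.x1 - 20 := by
    have := S.deg L.x1; simp only [L.r1] at this; simpa using this
  have key : (1 : ℚ) / S.D L.x6 = 1 := by
    rcases h with ⟨rfl, rfl, rfl, rfl⟩ | ⟨rfl, rfl, rfl, rfl⟩
    · simp only [Matrix.cons_val_zero, Matrix.cons_val_one, Matrix.cons_val, Matrix.head_cons, Int.cast_ofNat,
        Int.cast_zero, Int.cast_one] at pA0 tA pA2 pB0 tB pB4 pC4 tC pC6 pD2 tD pD6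
      refine frame_one (R := 72 * T.K) (a := 1 / (S.D L.x1 : ℚ)) (a2 := 1 / (S.D L.x2 : ℚ))
        (a4 := 1 / (S.D L.x4 : ℚ)) (U0 := T.omV S.o / T.p - T.omV L.x1 / T.p) (W0 := T.omW S.o / T.q - T.omW L.x1 / T.q)
        (U2 := T.omV L.x2 / T.p - T.omV L.x1 / T.p) (W2 := T.omW L.x2 / T.q - T.omW L.x1 / T.q)
        (U4 := T.omV L.x4 / T.p - T.omV L.x1 / T.p) (W4 := T.omW L.x4 / T.q - T.omW L.x1 / T.q)
        (U6 := T.omV L.x6 / T.p - T.omV L.x1 / T.p) (W6 := T.omW L.x6 / T.q - T.omW L.x1 / T.q)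
        (by simp [hK]) ha ?_ ?_ ?_ ?_ ?_ ?_ ?_ ?_ ?_ ?_ ?_ ?_
      · linear_combination pA0 / 36
      · linear_combination pB0 / 36
      · linear_combination pA2 / 36
      · linear_combination pD2 / 36
      · linear_combination pB4 / 36
      · linear_combination pC4 / 36
      · linear_combination pC6 / 36
      · linear_combination pD6 / 36
      · linear_combination tA / 36
      · linear_combination tB / 36
      · linear_combination tC / 36
      · linear_combination tD / 36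
    · simp only [Matrix.cons_val_zero, Matrix.cons_val_one, Matrix.cons_val, Matrix.head_cons, Int.cast_ofNat,
        Int.cast_zero, Int.cast_one, Int.cast_neg] at pA0 tA pA2 pB0 tB pB4 pC4 tC pC6 pD2 tD pD6
      rcases frame_two (R := 576 * T.K) (a := 1 / (S.D L.x1 : ℚ)) (a0 := 1) (a2 := 1 / (S.D L.x2 : ℚ))
        (a4 := 1 / (S.D L.x4 : ℚ)) (a6 := 1 / (S.D L.x6 : ℚ))
        (U0 := T.omV S.o / T.p - T.omV L.x1 / T.p) (W0 := T.omW S.o / T.q - T.omW L.x1 / T.q)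
        (U2 := T.omV L.x2 / T.p - T.omV L.x1 / T.p) (W2 := T.omW L.x2 / T.q - T.omW L.x1 / T.q)
        (U4 := T.omV L.x4 / T.p - T.omV L.x1 / T.p) (W4 := T.omW L.x4 / T.q - T.omW L.x1 / T.q)
        (U6 := T.omV L.x6 / T.p - T.omV L.x1 / T.p) (W6 := T.omW L.x6 / T.q - T.omW L.x1 / T.q) (by simp [hK]) ha
        (by linear_combination pA0 / 72) (by linear_combination (2 / 9 : ℚ) * pB0)
        (by linear_combination pA2 / 72) (by linear_combination (2 / 9 : ℚ) * pD2)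
        (by linear_combination (2 / 9 : ℚ) * pB4) (by linear_combination pC4 / 18)
        (by linear_combination pC6 / 18) (by linear_combination (2 / 9 : ℚ) * pD6)
        (by linear_combination tA / 72) (by linear_combination (2 / 9 : ℚ) * tB)
        (by linear_combination tC / 18) (by linear_combination (2 / 9 : ℚ) * tD) with e | e | e
      · exact e
      · exfalso
        have e' : 81 * (S.D L.x6 + S.D L.x1) = 17 * (S.D L.x6 + S.D L.x1 * S.D L.x6) := by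
          field_simp [hD] at e
          exact_mod_cast (by linear_combination e : (81 : ℚ) * (S.D L.x6 + S.D L.x1) = 17 * (S.D L.x6 + S.D L.x1 * S.D L.x6))
        obtain ⟨i, hi⟩ := m1
        obtain ⟨j, hj⟩ := m6
        rw [show S.D L.x1 = 9 * i + 20 by linarith, show S.D L.x6 = 9 * j + 10 by linarith] at e'
        ring_nf at e'
        omega
      · exfalso
        have e' : 1617 * (S.D L.x6 + S.D L.x1) = 17 * (S.D L.x6 + S.D L.x1 * S.D L.x6) := by
          field_simp [hD] at e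
          exact_mod_cast (by linear_combination e : (1617 : ℚ) * (S.D L.x6 + S.D L.x1) = 17 * (S.D L.x6 + S.D L.x1 * S.D L.x6))
        obtain ⟨i, hi⟩ := m1
        obtain ⟨j, hj⟩ := m6
        rw [show S.D L.x1 = 9 * i + 20 by linarith, show S.D L.x6 = 9 * j + 10 by linarith] at e'
        ring_nf at e'
        omega
  refine ⟨L.x6, ?_, q60, q61, q62, q63⟩
  field_simp [hD] at key
  exact_mod_cast key.symm

end SVals

end H6.Three
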