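import Mathlib

/-!
Identities for four weighted points of total weight zero carrying two functions of mean zero.
-/

set_option autoImplicit false
set_option linter.all false

namespace H6.Three

/-- The quadratic form of a weighted four point set. -/
def q4 (m U W : Fin 4 → ℚ) : ℚ := ∑ i, m i * U i * W i

theorem q4_det (m U W : Fin 4 → ℚ) (hm : ∀ i, m i ≠ 0) (h0 : ∑ i, m i = 0) (hU : ∑ i, m i * U i = 0)
    (hW : ∑ i, m i * W i = 0) :
    (q4 m U U * q4 m W W - q4 m U W ^ 2) * (m 0 * m 1 * m 2 * m 3) =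
      -((m 0 * (m 1 * U 1 * (m 2 * W 2) - m 2 * U 2 * (m 1 * W 1))
        - m 1 * (m 0 * U 0 * (m 2 * W 2) - m 2 * U 2 * (m 0 * W 0))
        + m 2 * (m 0 * U 0 * (m 1 * W 1) - m 1 * U 1 * (m 0 * W 0))) ^ 2) := by
  simp only [Fin.sum_univ_four] at h0 hU hW
  simp only [q4, Fin.sum_univ_four]
  have h3 : m 3 = -(m 0 + m 1 + m 2) := by linarith
  have hu : U 3 = -(m 0 * U 0 + m 1 * U 1 + m 2 * U 2) / m 3 := by
    rw [eq_div_iff (hm 3)]; linarith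
  have hw : W 3 = -(m 0 * W 0 + m 1 * W 1 + m 2 * W 2) / m 3 := by
    rw [eq_div_iff (hm 3)]; linarith
  have hs : m 0 + m 1 + m 2 ≠ 0 := fun e => hm 3 (by rw [h3, e, neg_zero])
  rw [hu, hw, h3]
  field_simp
  ring

theorem q4_pair (m U W : Fin 4 → ℚ) (hm : ∀ i, m i ≠ 0) (h0 : ∑ i, m i = 0) (hU : ∑ i, m i * U i = 0)
    (hW : ∑ i, m i * W i = 0) :
    q4 m W W * (U 1 - U 0) ^ 2 - 2 * q4 m U W * (U 1 - U 0) * (W 1 - W 0) + q4 m U U * (W 1 - W 0) ^ 2 =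
      (q4 m U U * q4 m W W - q4 m U W ^ 2) * (1 / m 0 + 1 / m 1) := by
  simp only [Fin.sum_univ_four] at h0 hU hW
  simp only [q4, Fin.sum_univ_four]
  have h3 : m 3 = -(m 0 + m 1 + m 2) := by linarith
  have hu : U 3 = -(m 0 * U 0 + m 1 * U 1 + m 2 * U 2) / m 3 := by
    rw [eq_div_iff (hm 3)]; linarith
  have hw : W 3 = -(m 0 * W 0 + m 1 * W 1 + m 2 * W 2) / m 3 := by
    rw [eq_div_iff (hm 3)]; linarith
  have hs : m 0 + m 1 + m 2 ≠ 0 := fun e => hm 3 (by rw [h3, e, neg_zero])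
  have a0 := hm 0
  have a1 := hm 1
  rw [hu, hw, h3]
  field_simp
  ring

theorem q4_triple (m U W : Fin 4 → ℚ) (hm : ∀ i, m i ≠ 0) (h0 : ∑ i, m i = 0) (hU : ∑ i, m i * U i = 0)
    (hW : ∑ i, m i * W i = 0) :
    q4 m W W * (U 1 - U 0) * (U 2 - U 0)
      - q4 m U W * ((U 1 - U 0) * (W 2 - W 0) + (U 2 - U 0) * (W 1 - W 0))
      + q4 m U U * (W 1 - W 0) * (W 2 - W 0) =
      (q4 m U U * q4 m W W - q4 m U W ^ 2) * (1 / m 0) := by
  simp only [Fin.sum_univ_four] at h0 hU hW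
  simp only [q4, Fin.sum_univ_four]
  have h3 : m 3 = -(m 0 + m 1 + m 2) := by linarith
  have hu : U 3 = -(m 0 * U 0 + m 1 * U 1 + m 2 * U 2) / m 3 := by
    rw [eq_div_iff (hm 3)]; linarith
  have hw : W 3 = -(m 0 * W 0 + m 1 * W 1 + m 2 * W 2) / m 3 := by
    rw [eq_div_iff (hm 3)]; linarith
  have hs : m 0 + m 1 + m 2 ≠ 0 := fun e => hm 3 (by rw [h3, e, neg_zero])
  have a0 := hm 0
  rw [hu, hw, h3]
  field_simp
  ring

end H6.Three
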