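import Cfsg.Agent.H6.Three.Chars
import Cfsg.Agent.H6.Three.Endgame
import Cfsg.Agent.H12.Linear

/-!
A group containing `S₃ ≀ 2` with trivial-intersection special elements has a linear character that is
`-1` on both classes of noncentral involutions of the model.
-/

set_option autoImplicit false
set_option linter.all false

open Cfsg
open scoped ComplexConjugate

namespace H6.Three

theorem count_WU_swap : ∀ k : Fin 3, ∃ g : K,
    g * (![w₀, u₀, z₀] k) * g⁻¹ = flipFun (![u₀, w₀, z₀] k) := by decide +kernel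

universe u

variable {G : Type u} [Group G] [Fintype G]

namespace Config

variable (S : Config G)

noncomputable def cI (i : Fin 4) (χ : IrrCharacter G) : ℤ := (S.coef_int (gen_alpha i) χ).choose

theorem cI_spec (i : Fin 4) (χ : IrrCharacter G) : S.coef (alpha i) χ = S.cI i χ :=
  (S.coef_int (gen_alpha i) χ).choose_spec

noncomputable def deg (χ : IrrCharacter G) : ℤ := H12.degree (χ : G → ℂ)

theorem deg_eq (χ : IrrCharacter G) : (χ : G → ℂ) 1 = (deg χ : ℂ) := by
  rw [H12.irr_apply_one]; simp [deg]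

theorem deg_pos (χ : IrrCharacter G) : 0 < deg χ := by
  simp only [deg]; exact_mod_cast H12.irr_degree_pos χ

theorem cI_gram (i j : Fin 4) : ∑ χ, S.cI i χ * S.cI j χ = gramK i j := by
  have h := S.gram (special_alpha i) (special_alpha j) (sum_alpha_alpha i j)
  simp only [S.cI_spec, map_intCast] at h
  exact_mod_cast h

theorem cI_one (i : Fin 4) : S.cI i (H12.oneIrr G) = if i.val < 2 then 1 else 0 := by
  have h := S.coef_trivial (θ := alpha i) (k := if i.val < 2 then 1 else 0)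
    (by rw [sum_alpha]; split_ifs <;> norm_num)
  rw [S.cI_spec] at h
  exact_mod_cast h

theorem cI_zero_sum (i : Fin 4) {x : G} (hx : x ^ 2 = 1) : ∑ χ, (S.cI i χ : ℂ) * (χ : G → ℂ) x = 0 := by
  have h := S.ind_apply_sum (alpha i) x
  rw [S.ind_eq_zero (special_alpha i) hx] at h
  simp only [S.cI_spec] at h
  exact h.symm

theorem cI_deg (i : Fin 4) : ∑ χ, S.cI i χ * deg χ = 0 := by
  have h := S.cI_zero_sum i (x := 1) (one_pow 2)
  simp only [deg_eq] at h
  exact_mod_cast h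

theorem deg_congr (χ : IrrCharacter G) :
    (9 : ℤ) ∣ deg χ - 5 * (S.cI 0 χ + S.cI 1 χ + S.cI 2 χ + S.cI 3 χ) := by
  obtain ⟨z, hz⟩ := S.coef_int gen_auxDeg χ
  have key : 5 * (S.coef (alpha 0) χ + S.coef (alpha 1) χ + S.coef (alpha 2) χ + S.coef (alpha 3) χ) +
      9 * S.coef auxDeg χ = (deg χ : ℂ) := by
    have h72 : (72 : ℂ) ≠ 0 := by norm_num
    apply mul_left_cancel₀ h72
    calc (72 : ℂ) * (5 * (S.coef (alpha 0) χ + S.coef (alpha 1) χ + S.coef (alpha 2) χ + S.coef (alpha 3) χ) +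
          9 * S.coef auxDeg χ)
        = 5 * (72 * S.coef (alpha 0) χ + 72 * S.coef (alpha 1) χ + 72 * S.coef (alpha 2) χ +
            72 * S.coef (alpha 3) χ) + 9 * (72 * S.coef auxDeg χ) := by ring
      _ = ∑ m : K, ((5 * (alpha 0 m + alpha 1 m + alpha 2 m + alpha 3 m) + 9 * auxDeg m : ℤ) : ℂ) *
            conj ((χ : G → ℂ) (S.j m)) := by
          simp only [S.coef_sum, ← Finset.sum_add_distrib, Finset.mul_sum]
          exact Finset.sum_congr rfl fun m _ => by push_cast; ring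
      _ = 72 * (deg χ : ℂ) := by
          simp only [indicatorOne]
          rw [Finset.sum_eq_single 1 (fun m _ hm => by simp [hm]) (by simp)]
          simp [map_one, deg_eq]
  rw [S.cI_spec, S.cI_spec, S.cI_spec, S.cI_spec, hz] at key
  have : 5 * (S.cI 0 χ + S.cI 1 χ + S.cI 2 χ + S.cI 3 χ) + 9 * z = deg χ := by exact_mod_cast key
  exact ⟨z, by linarith⟩

theorem exists_val {A B : Fin 4} {aux : K → ℤ} {x₀ : K} (haux : IsGenK aux)
    (hind : ∀ x : K, alpha A x - alpha B x + 3 * aux x =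
      if x ∈ Finset.univ.filter (fun m => ∃ k : K, k * x₀ * k⁻¹ = m) then 12 else 0)
    (hcard : (Finset.univ.filter (fun m => ∃ k : K, k * x₀ * k⁻¹ = m)).card = 6) (χ : IrrCharacter G) :
    ∃ v : ℤ, (χ : G → ℂ) (S.j x₀) = v ∧ (3 : ℤ) ∣ v - (S.cI A χ - S.cI B χ) := by
  obtain ⟨z, hz⟩ := S.coef_int haux χ
  have key : S.coef (alpha A) χ - S.coef (alpha B) χ + 3 * S.coef aux χ =
      conj ((χ : G → ℂ) (S.j x₀)) := by
    have h72 : (72 : ℂ) ≠ 0 := by norm_num
    apply mul_left_cancel₀ h72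
    calc (72 : ℂ) * (S.coef (alpha A) χ - S.coef (alpha B) χ + 3 * S.coef aux χ)
        = 72 * S.coef (alpha A) χ - 72 * S.coef (alpha B) χ + 3 * (72 * S.coef aux χ) := by ring
      _ = ∑ m : K, ((alpha A m - alpha B m + 3 * aux m : ℤ) : ℂ) * conj ((χ : G → ℂ) (S.j m)) := by
          simp only [S.coef_sum, ← Finset.sum_sub_distrib, ← Finset.sum_add_distrib, Finset.mul_sum]
          exact Finset.sum_congr rfl fun m _ => by push_cast; ring
      _ = ∑ m ∈ Finset.univ.filter (fun m => ∃ k : K, k * x₀ * k⁻¹ = m),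
            (12 : ℂ) * conj ((χ : G → ℂ) (S.j x₀)) := by
          rw [← Finset.sum_subset (Finset.subset_univ
            (Finset.univ.filter (fun m => ∃ k : K, k * x₀ * k⁻¹ = m))) (fun m _ hm => by
              rw [hind, if_neg hm, Int.cast_zero, zero_mul])]
          refine Finset.sum_congr rfl fun m hm => ?_
          rw [hind, if_pos hm]
          obtain ⟨k, rfl⟩ := (Finset.mem_filter.1 hm).2
          rw [map_mul, map_mul, map_inv, H12.irr_isClassFunction χ (S.j x₀) (S.j k)]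
          norm_num
      _ = 72 * conj ((χ : G → ℂ) (S.j x₀)) := by
          rw [Finset.sum_const, hcard, nsmul_eq_mul]; push_cast; ring
  rw [S.cI_spec, S.cI_spec, hz] at key
  refine ⟨S.cI A χ - S.cI B χ + 3 * z, ?_, ⟨z, by ring⟩⟩
  have h2 := congrArg conj key
  simp only [Complex.conj_conj, map_add, map_sub, map_mul, map_intCast, map_ofNat] at h2
  push_cast
  exact h2.symm

theorem exists_uVal (χ : IrrCharacter G) :
    ∃ v : ℤ, (χ : G → ℂ) (S.j u₀) = v ∧ (3 : ℤ) ∣ v - (S.cI 0 χ - S.cI 2 χ) :=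
  S.exists_val (gen_thA.sub (gen_la.mul gen_thA)) (by exact indicatorU) (by exact card_setU) χ

theorem exists_wVal (χ : IrrCharacter G) :
    ∃ v : ℤ, (χ : G → ℂ) (S.j w₀) = v ∧ (3 : ℤ) ∣ v - (S.cI 1 χ - S.cI 3 χ) :=
  S.exists_val (gen_thB.sub (gen_lb.mul gen_thB)) (by exact indicatorW) (by exact card_setW) χ

noncomputable def uVal (χ : IrrCharacter G) : ℤ := (S.exists_uVal χ).choose
noncomputable def wVal (χ : IrrCharacter G) : ℤ := (S.exists_wVal χ).choose

theorem uVal_spec (χ : IrrCharacter G) :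
    (χ : G → ℂ) (S.j u₀) = S.uVal χ ∧ (3 : ℤ) ∣ S.uVal χ - (S.cI 0 χ - S.cI 2 χ) :=
  (S.exists_uVal χ).choose_spec

theorem wVal_spec (χ : IrrCharacter G) :
    (χ : G → ℂ) (S.j w₀) = S.wVal χ ∧ (3 : ℤ) ∣ S.wVal χ - (S.cI 1 χ - S.cI 3 χ) :=
  (S.exists_wVal χ).choose_spec

theorem not_conj_uw : ¬ IsConj (S.j u₀) (S.j w₀) := by
  intro h
  obtain ⟨g, hg⟩ := isConj_iff.1 h
  have he : ∀ χ, (3 : ℤ) ∣ S.cI 0 χ - S.cI 1 χ - S.cI 2 χ + S.cI 3 χ := by
    intro χ
    have e : S.uVal χ = S.wVal χ := by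
      have : (S.uVal χ : ℂ) = (S.wVal χ : ℂ) := by
        rw [← (S.uVal_spec χ).1, ← (S.wVal_spec χ).1, ← hg, H12.irr_isClassFunction χ (S.j u₀) g]
      exact_mod_cast this
    have h1 := (S.uVal_spec χ).2
    have h2 := (S.wVal_spec χ).2
    omega
  have h9 : (9 : ℤ) ∣ ∑ χ, (S.cI 0 χ - S.cI 1 χ - S.cI 2 χ + S.cI 3 χ) ^ 2 :=
    Finset.dvd_sum fun χ _ => by
      obtain ⟨k, hk⟩ := he χ
      exact ⟨k ^ 2, by rw [hk]; ring⟩
  have hexp : ∀ χ, (S.cI 0 χ - S.cI 1 χ - S.cI 2 χ + S.cI 3 χ) ^ 2 =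
      S.cI 0 χ * S.cI 0 χ + S.cI 1 χ * S.cI 1 χ + S.cI 2 χ * S.cI 2 χ + S.cI 3 χ * S.cI 3 χ
        - 2 * (S.cI 0 χ * S.cI 1 χ) - 2 * (S.cI 0 χ * S.cI 2 χ) + 2 * (S.cI 0 χ * S.cI 3 χ)
        + 2 * (S.cI 1 χ * S.cI 2 χ) - 2 * (S.cI 1 χ * S.cI 3 χ) - 2 * (S.cI 2 χ * S.cI 3 χ) := fun χ => by ring
  simp only [hexp, Finset.sum_add_distrib, Finset.sum_sub_distrib, ← Finset.mul_sum, S.cI_gram] at h9
  simp [gramK] at h9

theorem cI_unit (i : Fin 4) (χ : IrrCharacter G) : S.cI i χ = 0 ∨ S.cI i χ = 1 ∨ S.cI i χ = -1 := by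
  classical
  by_contra hne
  have h4 : 4 ≤ S.cI i χ * S.cI i χ := by
    rcases le_or_gt (S.cI i χ) (-2) with h | h
    · nlinarith
    · have : 2 ≤ S.cI i χ := by omega
      nlinarith
  have hsum : ∑ x, S.cI i x * S.cI i x = 4 := by rw [S.cI_gram]; fin_cases i <;> rfl
  have hz : ∀ x, x ≠ χ → S.cI i x = 0 := by
    intro x hx
    have h := Finset.sum_le_sum_of_subset_of_nonneg (f := fun z => S.cI i z * S.cI i z)
      (Finset.subset_univ ({χ, x} : Finset _)) (fun z _ _ => mul_self_nonneg _)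
    rw [Finset.sum_pair (Ne.symm hx), hsum] at h
    exact mul_self_eq_zero.1 (le_antisymm (by omega) (mul_self_nonneg _))
  have h1 : ∀ j, gramK i j = S.cI i χ * S.cI j χ := fun j => by
    rw [← S.cI_gram, Finset.sum_eq_single χ (fun x _ hx => by rw [hz x hx, zero_mul]) (by simp)]
  have ho : i.val < 2 → χ = H12.oneIrr G := fun hi => by
    by_contra hx
    have := hz _ (Ne.symm hx)
    rw [S.cI_one, if_pos hi] at this
    omega
  have h5 : S.cI i χ * S.cI i χ ≤ 4 := by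
    have := Finset.single_le_sum (f := fun z => S.cI i z * S.cI i z) (fun z _ => mul_self_nonneg _)
      (Finset.mem_univ χ)
    simp only [hsum] at this
    exact this
  have hu : S.cI i χ = 2 ∨ S.cI i χ = -2 := by
    have : -2 ≤ S.cI i χ := by nlinarith
    have : S.cI i χ ≤ 2 := by nlinarith
    omega
  fin_cases i
  · have := ho (by decide)
    subst this
    exact hne (Or.inr (Or.inl (S.cI_one 0)))
  · have := ho (by decide)
    subst this
    exact hne (Or.inr (Or.inl (S.cI_one 1)))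
  · have h := h1 0
    simp [gramK] at h hu
    rcases hu with e | e <;> rw [e] at h <;> omega
  · have h := h1 1
    simp [gramK] at h hu
    rcases hu with e | e <;> rw [e] at h <;> omega

theorem cI_same_sign (χ : IrrCharacter G) : 0 ≤ S.cI 2 χ * S.cI 3 χ := by
  classical
  by_contra hne
  have hsum : ∑ x, (S.cI 2 x - S.cI 3 x) * (S.cI 2 x - S.cI 3 x) = 4 := by
    have : ∀ x, (S.cI 2 x - S.cI 3 x) * (S.cI 2 x - S.cI 3 x) =
        S.cI 2 x * S.cI 2 x + S.cI 3 x * S.cI 3 x - 2 * (S.cI 2 x * S.cI 3 x) := fun x => by ring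
    simp only [this, Finset.sum_add_distrib, Finset.sum_sub_distrib, ← Finset.mul_sum, S.cI_gram]
    rfl
  have h2 : S.cI 2 χ - S.cI 3 χ = 2 ∨ S.cI 2 χ - S.cI 3 χ = -2 := by
    rcases S.cI_unit 2 χ with a | a | a <;> rcases S.cI_unit 3 χ with b | b | b <;> rw [a, b] at hne ⊢ <;>
      simp_all
  have hz : ∀ x, x ≠ χ → S.cI 2 x - S.cI 3 x = 0 := by
    intro x hx
    have h := Finset.sum_le_sum_of_subset_of_nonneg (f := fun z => (S.cI 2 z - S.cI 3 z) * (S.cI 2 z - S.cI 3 z))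
      (Finset.subset_univ ({χ, x} : Finset _)) (fun z _ _ => mul_self_nonneg _)
    rw [Finset.sum_pair (Ne.symm hx), hsum] at h
    refine mul_self_eq_zero.1 (le_antisymm ?_ (mul_self_nonneg _))
    rcases h2 with e | e <;> rw [e] at h <;> omega
  have h : ∑ x, S.cI 0 x * (S.cI 2 x - S.cI 3 x) = -1 := by
    simp only [mul_sub, Finset.sum_sub_distrib, S.cI_gram]
    rfl
  rw [Finset.sum_eq_single χ (fun x _ hx => by rw [hz x hx, mul_zero]) (by simp)] at h
  rcases h2 with e | e <;> rw [e] at h <;> omega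

noncomputable def sig (χ : IrrCharacter G) : ℤ :=
  if S.cI 2 χ ≠ 0 then S.cI 2 χ else if S.cI 3 χ ≠ 0 then S.cI 3 χ else 1

theorem sig_sq (χ : IrrCharacter G) : S.sig χ = 1 ∨ S.sig χ = -1 := by
  have := S.cI_unit 2 χ
  have := S.cI_unit 3 χ
  simp only [sig]
  split_ifs <;> omega

theorem sig_one : S.sig (H12.oneIrr G) = 1 := by simp [sig, S.cI_one]

noncomputable def toSData : SData (IrrCharacter G) where
  c i χ := S.sig χ * S.cI i χ
  D χ := S.sig χ * deg χ
  o := H12.oneIrr G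
  co i := by rw [S.sig_one, one_mul, S.cI_one]
  Do := by
    have h := deg_eq (H12.oneIrr G)
    rw [H12.oneIrr_apply] at h
    rw [S.sig_one, one_mul]
    exact_mod_cast h.symm
  Dne χ := by
    have := deg_pos χ
    rcases S.sig_sq χ with e | e <;> rw [e] <;> omega
  gram i j := by
    rw [← S.cI_gram]
    exact Finset.sum_congr rfl fun χ _ => by rcases S.sig_sq χ with e | e <;> rw [e] <;> ring
  cD i := by
    rw [← S.cI_deg i]
    exact Finset.sum_congr rfl fun χ _ => by rcases S.sig_sq χ with e | e <;> rw [e] <;> ring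
  deg χ := by
    have := S.deg_congr χ
    rcases S.sig_sq χ with e | e <;> rw [e] <;> omega
  unit i χ := by
    have := S.cI_unit i χ
    rcases S.sig_sq χ with e | e <;> rw [e] <;> omega
  nonneg2 χ := by
    have := S.cI_unit 2 χ
    by_cases h : S.cI 2 χ = 0
    · rw [h, mul_zero]
    · have e : S.sig χ = S.cI 2 χ := by simp [sig, h]
      rw [e]; exact mul_self_nonneg _
  nonneg3 χ := by
    by_cases h : S.cI 2 χ = 0
    · by_cases h' : S.cI 3 χ = 0
      · rw [h', mul_zero]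
      · have e : S.sig χ = S.cI 3 χ := by simp [sig, h, h']
        rw [e]; exact mul_self_nonneg _
    · have e : S.sig χ = S.cI 2 χ := by simp [sig, h]
      rw [e]; exact S.cI_same_sign χ

noncomputable def centCard (x : G) : ℚ := (Nat.card {g : G // g * x = x * g} : ℚ)

theorem centCard_ne (x : G) : centCard x ≠ 0 := by
  haveI : Nonempty {g : G // g * x = x * g} := ⟨⟨1, by simp⟩⟩
  simp only [centCard]
  exact_mod_cast Nat.card_pos.ne'

theorem quad_eq (i : Fin 4) {x y : G} (hx : x ^ 2 = 1) (hy : y ^ 2 = 1) {vx vy : IrrCharacter G → ℤ}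
    (hvx : ∀ χ : IrrCharacter G, (χ : G → ℂ) x = vx χ) (hvy : ∀ χ : IrrCharacter G, (χ : G → ℂ) y = vy χ)
    {T T' : Finset K} (hT : ∀ m : K, m ∈ T ↔ IsConj x (S.j m)) (hT' : ∀ m : K, m ∈ T' ↔ IsConj y (S.j m)) :
    ∑ χ, ((S.sig χ * S.cI i χ : ℤ) : ℚ) * (((S.sig χ * vx χ : ℤ) : ℚ) * ((S.sig χ * vy χ : ℤ) : ℚ) /
        ((S.sig χ * deg χ : ℤ) : ℚ)) =
      1 / (72 * (Nat.card G : ℚ)) * centCard x * centCard y * (count T T' (alpha i) : ℚ) := by
  have h := S.count_formula x y T T' hT hT' (special_alpha i) hx hy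
  simp only [S.cI_spec, hvx, hvy, deg_eq] at h
  have h' : ∑ χ, (S.cI i χ : ℚ) * ((vx χ : ℚ) * (vy χ : ℚ) / (deg χ : ℚ)) =
      centCard x * centCard y / (72 * (Nat.card G : ℚ)) * (count T T' (alpha i) : ℚ) := by
    apply Rat.cast_injective (α := ℂ)
    simp only [centCard]
    push_cast
    exact h
  rw [show 1 / (72 * (Nat.card G : ℚ)) * centCard x * centCard y =
    centCard x * centCard y / (72 * (Nat.card G : ℚ)) by ring, ← h']
  refine Finset.sum_congr rfl fun χ _ => ?_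
  have : (deg χ : ℚ) ≠ 0 := by exact_mod_cast (deg_pos χ).ne'
  rcases S.sig_sq χ with e | e <;> rw [e] <;> push_cast <;> field_simp

theorem lin_eq (i : Fin 4) {x : G} (hx : x ^ 2 = 1) {vx : IrrCharacter G → ℤ}
    (hvx : ∀ χ : IrrCharacter G, (χ : G → ℂ) x = vx χ) :
    ∑ χ, (S.sig χ * S.cI i χ) * (S.sig χ * vx χ) = 0 := by
  have h := S.cI_zero_sum i hx
  simp only [hvx] at h
  have h' : ∑ χ, S.cI i χ * vx χ = 0 := by exact_mod_cast h
  rw [← h']
  exact Finset.sum_congr rfl fun χ _ => by rcases S.sig_sq χ with e | e <;> rw [e] <;> ring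

theorem u_sq : S.j u₀ ^ 2 = 1 := by rw [← map_pow, u₀_sq, map_one]
theorem w_sq : S.j w₀ ^ 2 = 1 := by rw [← map_pow, w₀_sq, map_one]

theorem val_one {x : G} {vx : ℤ} (h : ((H12.oneIrr G : IrrCharacter G) : G → ℂ) x = vx) : vx = 1 := by
  rw [H12.oneIrr_apply] at h
  exact_mod_cast h.symm

noncomputable def toSVals {f11 f12 f22 g : Fin 4 → ℤ} {T T' : Finset K}
    (hT : ∀ m : K, m ∈ T ↔ IsConj (S.j u₀) (S.j m)) (hT' : ∀ m : K, m ∈ T' ↔ IsConj (S.j w₀) (S.j m))
    (h11 : ∀ i, count T T (alpha i) = f11 i) (h12 : ∀ i, count T T' (alpha i) = f12 i)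
    (h22 : ∀ i, count T' T' (alpha i) = f22 i)
    (hdet : ∀ i, f11 i * f22 i - f12 i * f12 i = 2592 * (g i * g i)) (hg : ∀ i, g i ≠ 0) :
    SVals S.toSData f11 f12 f22 g where
  V χ := S.sig χ * S.uVal χ
  W χ := S.sig χ * S.wVal χ
  Vo := by
    show S.sig (H12.oneIrr G) * _ = 1
    rw [S.sig_one, one_mul]; exact val_one (S.uVal_spec _).1
  Wo := by
    show S.sig (H12.oneIrr G) * _ = 1
    rw [S.sig_one, one_mul]; exact val_one (S.wVal_spec _).1
  cV i := S.lin_eq i S.u_sq (fun χ => (S.uVal_spec χ).1)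
  cW i := S.lin_eq i S.w_sq (fun χ => (S.wVal_spec χ).1)
  K := 1 / (72 * (Nat.card G : ℚ))
  p := centCard (S.j u₀)
  q := centCard (S.j w₀)
  hK := by
    have : (Nat.card G : ℚ) ≠ 0 := by exact_mod_cast Nat.card_pos.ne'
    simp [this]
  hp := centCard_ne _
  hq := centCard_ne _
  q11 i := by
    rw [← h11 i]
    exact S.quad_eq i S.u_sq S.u_sq (fun χ => (S.uVal_spec χ).1) (fun χ => (S.uVal_spec χ).1) hT hT
  q12 i := by
    rw [← h12 i]
    exact S.quad_eq i S.u_sq S.w_sq (fun χ => (S.uVal_spec χ).1) (fun χ => (S.wVal_spec χ).1) hT hT'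
  q22 i := by
    rw [← h22 i]
    exact S.quad_eq i S.w_sq S.w_sq (fun χ => (S.wVal_spec χ).1) (fun χ => (S.wVal_spec χ).1) hT' hT'
  hdet := hdet
  hg := hg

theorem conj_in {m x : K} (h : ∃ k : K, k * x * k⁻¹ = m) : IsConj (S.j x) (S.j m) := by
  obtain ⟨k, rfl⟩ := h
  exact isConj_iff.2 ⟨S.j k, by simp⟩

theorem mem_of_conj {x m : K} (hx : x ^ 2 = 1) (hx1 : x ≠ 1) (h : IsConj (S.j x) (S.j m)) :
    (m ∈ setU ∧ IsConj (S.j x) (S.j u₀)) ∨ (m ∈ setW ∧ IsConj (S.j x) (S.j w₀)) ∨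
      (m ∈ setZ ∧ IsConj (S.j x) (S.j z₀)) := by
  obtain ⟨g, hg⟩ := isConj_iff.1 h
  have hm2 : m ^ 2 = 1 := by
    apply S.inj
    rw [map_pow, ← hg, conj_pow, ← map_pow, hx, map_one]; simp
  have hm1 : m ≠ 1 := fun e => hx1 (S.inj (by
    rw [e, map_one] at h
    rw [map_one]; exact isConj_one_left.1 h))
  rcases invol_cases m with e | e | e | e | e
  · exact absurd e hm1
  · exact absurd hm2 e
  · exact Or.inl ⟨e, h.trans (S.conj_in (Finset.mem_filter.1 e).2).symm⟩
  · exact Or.inr (Or.inl ⟨e, h.trans (S.conj_in (Finset.mem_filter.1 e).2).symm⟩)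
  · exact Or.inr (Or.inr ⟨e, h.trans (S.conj_in (Finset.mem_filter.1 e).2).symm⟩)

theorem linear_of_shape {f11 f12 f22 g : Fin 4 → ℤ} (T : SVals S.toSData f11 f12 f22 g)
    (h : SVals.ShapeOne f11 f12 f22 g ∨ SVals.ShapeTwo f11 f12 f22 g) :
    ∃ f : G →* ℂˣ, f (S.j u₀) = -1 ∧ f (S.j w₀) = -1 := by
  obtain ⟨χ, hD, c0, c1, c2, c3⟩ := T.exists_degree_one h
  simp only [toSData] at hD c0 c1 c2 c3
  have hpos := deg_pos χ
  have hs : S.sig χ = 1 := by
    rcases S.sig_sq χ with e | e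
    · exact e
    · rw [e] at hD; omega
  rw [hs, one_mul] at hD c0 c1 c2 c3
  obtain ⟨f, hf⟩ := H12.exists_monoidHom_of_apply_one_eq_one (H12.isCharacter_irr χ)
    (by rw [deg_eq, hD]; simp)
  have hfg : ∀ x, (χ : G → ℂ) x = (f x : ℂ) := fun x => (congrFun hf x).symm
  have key : ∀ (x : K), x ^ 2 = 1 → ∀ v : ℤ, (χ : G → ℂ) (S.j x) = v → (3 : ℤ) ∣ v - -1 → f (S.j x) = -1 := by
    intro x hx v hv h3
    have hsq : v * v = 1 := by
      have : (v : ℂ) * (v : ℂ) = 1 := by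
        rw [← hv, hfg, ← Units.val_mul, ← map_mul, ← map_mul, ← sq, hx, map_one, map_one]
        simp
      exact_mod_cast this
    apply Units.ext
    rw [← hfg, hv]
    rcases mul_self_eq_one_iff.1 hsq with e | e
    · omega
    · simp [e]
  refine ⟨f, key u₀ u₀_sq _ (S.uVal_spec χ).1 ?_, key w₀ w₀_sq _ (S.wVal_spec χ).1 ?_⟩
  · have := (S.uVal_spec χ).2; rw [c0, c2] at this; simpa using this
  · have := (S.wVal_spec χ).2; rw [c1, c3] at this; simpa using this

theorem linear_aux (hwz : ¬ IsConj (S.j w₀) (S.j z₀)) :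
    ∃ f : G →* ℂˣ, f (S.j u₀) = -1 ∧ f (S.j w₀) = -1 := by
  have hT' : ∀ m : K, m ∈ setW ↔ IsConj (S.j w₀) (S.j m) := by
    intro m
    refine ⟨fun h => S.conj_in (Finset.mem_filter.1 h).2, fun h => ?_⟩
    rcases S.mem_of_conj w₀_sq w₀_ne h with ⟨-, c⟩ | ⟨e, -⟩ | ⟨-, c⟩
    · exact absurd c.symm S.not_conj_uw
    · exact e
    · exact absurd c hwz
  by_cases huz : IsConj (S.j u₀) (S.j z₀)
  · have hT : ∀ m : K, m ∈ setU ∪ setZ ↔ IsConj (S.j u₀) (S.j m) := by
      intro m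
      constructor
      · intro h
        rcases Finset.mem_union.1 h with h | h
        · exact S.conj_in (Finset.mem_filter.1 h).2
        · exact huz.trans (S.conj_in (Finset.mem_filter.1 h).2)
      · intro h
        rcases S.mem_of_conj u₀_sq u₀_ne h with ⟨e, -⟩ | ⟨-, c⟩ | ⟨e, -⟩
        · exact Finset.mem_union_left _ e
        · exact absurd c S.not_conj_uw
        · exact Finset.mem_union_right _ e
    exact S.linear_of_shape (S.toSVals hT hT' (g := ![4, 1, 2, 1]) count_UUZ count_UZW count_WW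
      (by decide) (by decide)) (Or.inr ⟨rfl, rfl, rfl, rfl⟩)
  · have hT : ∀ m : K, m ∈ setU ↔ IsConj (S.j u₀) (S.j m) := by
      intro m
      refine ⟨fun h => S.conj_in (Finset.mem_filter.1 h).2, fun h => ?_⟩
      rcases S.mem_of_conj u₀_sq u₀_ne h with ⟨e, -⟩ | ⟨-, c⟩ | ⟨-, c⟩
      · exact e
      · exact absurd c S.not_conj_uw
      · exact absurd c huz
    exact S.linear_of_shape (S.toSVals hT hT' (g := ![1, 1, 1, 1]) count_UU
      (f12 := ![0, 0, 0, 0]) (fun i => by rw [count_UW]; fin_cases i <;> rfl) count_WW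
      (by decide) (by decide)) (Or.inl ⟨rfl, rfl, rfl, rfl⟩)

/-- The configuration with axes and diagonals exchanged. -/
def swap : Config G where
  j := S.j.comp flipHom
  inj := S.inj.comp flipHom_injective
  ti m hm g hg := by
    have hs : Function.Surjective flipHom := Finite.injective_iff_surjective.1 flipHom_injective
    have hr : (S.j.comp flipHom).range = S.j.range := by
      rw [MonoidHom.range_comp, MonoidHom.range_eq_top.2 hs, ← MonoidHom.range_eq_map]
    rw [hr] at hg ⊢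
    refine S.ti (flipHom m) (fun h => hm (flipHom_injective ?_)) g hg
    rw [map_pow, map_one]; exact h

/-- The main result. -/
theorem exists_linear : ∃ f : G →* ℂˣ, f (S.j u₀) = -1 ∧ f (S.j w₀) = -1 := by
  by_cases hwz : IsConj (S.j w₀) (S.j z₀)
  · have cu : IsConj (S.j w₀) (S.swap.j u₀) := S.conj_in (count_WU_swap 0)
    have cw : IsConj (S.j u₀) (S.swap.j w₀) := S.conj_in (count_WU_swap 1)
    have cz : IsConj (S.j z₀) (S.swap.j z₀) := S.conj_in (count_WU_swap 2)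
    have h : ¬ IsConj (S.swap.j w₀) (S.swap.j z₀) := fun h =>
      S.not_conj_uw (((cw.trans h).trans cz.symm).trans hwz.symm)
    obtain ⟨f, hu, hw⟩ := S.swap.linear_aux h
    have hc : ∀ {a b : G}, IsConj a b → f a = f b := fun {a b} hab => isConj_iff_eq.1 (f.map_isConj hab)
    exact ⟨f, (hc cw).trans hw, (hc cu).trans hu⟩
  · exact S.linear_aux hwz

end Config

end H6.Three
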