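import Mathlib

/-!
The group `S₃ ≀ 2` of order 72 and its integral functions supported on the elements whose order is
divisible by three.
-/

set_option autoImplicit false
set_option linter.all false

namespace H6.Three

abbrev D3 : Type := DihedralGroup 3

/-- The model `(S₃ × S₃) ⋊ 2`. -/
@[ext] structure K where
  a : D3
  b : D3
  w : Bool
deriving DecidableEq

namespace K

def equivProd : K ≃ D3 × D3 × Bool where
  toFun x := (x.a, x.b, x.w)
  invFun x := ⟨x.1, x.2.1, x.2.2⟩
  left_inv _ := rfl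
  right_inv _ := rfl

instance : Fintype K := Fintype.ofEquiv _ equivProd.symm

instance : Mul K := ⟨fun x y => bif x.w then ⟨x.a * y.b, x.b * y.a, !y.w⟩ else ⟨x.a * y.a, x.b * y.b, y.w⟩⟩
instance : One K := ⟨⟨1, 1, false⟩⟩
instance : Inv K := ⟨fun x => bif x.w then ⟨x.b⁻¹, x.a⁻¹, true⟩ else ⟨x.a⁻¹, x.b⁻¹, false⟩⟩

theorem mul_def (x y : K) :
    x * y = bif x.w then ⟨x.a * y.b, x.b * y.a, !y.w⟩ else ⟨x.a * y.a, x.b * y.b, y.w⟩ := rfl
theorem one_def : (1 : K) = ⟨1, 1, false⟩ := rfl
theorem inv_def (x : K) :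
    x⁻¹ = bif x.w then ⟨x.b⁻¹, x.a⁻¹, true⟩ else ⟨x.a⁻¹, x.b⁻¹, false⟩ := rfl

instance : Group K where
  mul_assoc x y z := by
    rcases x with ⟨a, b, _ | _⟩ <;> rcases y with ⟨c, d, _ | _⟩ <;> rcases z with ⟨e, f, g⟩ <;>
      simp [mul_def, mul_assoc]
  one_mul x := by rcases x with ⟨a, b, _ | _⟩ <;> simp [mul_def, one_def]
  mul_one x := by rcases x with ⟨a, b, _ | _⟩ <;> simp [mul_def, one_def]
  inv_mul_cancel x := by rcases x with ⟨a, b, _ | _⟩ <;> simp [mul_def, one_def, inv_def]

end K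

/-- A noncentral involution of the base. -/
def u₀ : K := ⟨.sr 0, 1, false⟩
/-- The swap. -/
def w₀ : K := ⟨1, 1, true⟩
def g₁ : K := ⟨.r 1, 1, false⟩
def g₂ : K := ⟨.r 1, .r 1, false⟩

theorem card_K : Fintype.card K = 72 := rfl

def sgn : D3 → ℤ
  | .r _ => 1
  | .sr _ => -1

def rho : D3 → ℤ
  | .r i => if i = 0 then 2 else -1
  | .sr _ => 0

def la (x : K) : ℤ := sgn x.a * sgn x.b
def lb (x : K) : ℤ := bif x.w then -1 else 1
def chiTwo (x : K) : ℤ := bif x.w then 0 else sgn x.a + sgn x.b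
def thA (x : K) : ℤ := bif x.w then 0 else rho x.a + rho x.b
def thB (x : K) : ℤ := bif x.w then rho (x.a * x.b) else rho x.a * rho x.b

/-- The four functions supported on elements of order divisible by three. -/
def alpha : Fin 4 → K → ℤ :=
  ![fun x => 1 + lb x + chiTwo x - thA x,
    fun x => 1 + la x + chiTwo x - thB x,
    fun x => la x + la x * lb x + chiTwo x - la x * thA x,
    fun x => lb x + la x * lb x + chiTwo x - lb x * thB x]

/-- Elements of order divisible by three. -/
def Spec (x : K) : Prop := x ^ 4 ≠ 1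

instance : DecidablePred Spec := fun x => inferInstanceAs (Decidable (x ^ 4 ≠ 1))

def setU : Finset K := Finset.univ.filter fun m => ∃ k : K, k * u₀ * k⁻¹ = m
def setW : Finset K := Finset.univ.filter fun m => ∃ k : K, k * w₀ * k⁻¹ = m
def z₀ : K := ⟨.sr 0, .sr 0, false⟩
def setZ : Finset K := Finset.univ.filter fun m => ∃ k : K, k * z₀ * k⁻¹ = m

def count (S T : Finset K) (θ : K → ℤ) : ℤ := ∑ x ∈ S, ∑ y ∈ T, θ (x * y)

def gramK : Fin 4 → Fin 4 → ℤ :=
  ![![4, 2, 1, 2], ![2, 4, 2, 1], ![1, 2, 4, 2], ![2, 1, 2, 4]]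

theorem sum_alpha : ∀ i : Fin 4, ∑ x : K, alpha i x = if i.val < 2 then 72 else 0 := by decide +kernel
theorem sum_alpha_alpha : ∀ i j : Fin 4, ∑ x : K, alpha i x * alpha j x = 72 * gramK i j := by decide +kernel
theorem alpha_supp : ∀ i : Fin 4, ∀ x : K, ¬ Spec x → alpha i x = 0 := by decide +kernel
theorem alpha_class : ∀ i : Fin 4, ∀ k x : K, alpha i (k * x * k⁻¹) = alpha i x := by decide +kernel
theorem invol_cases : ∀ x : K, x = 1 ∨ ¬ x ^ 2 = 1 ∨ x ∈ setU ∨ x ∈ setW ∨ x ∈ setZ := by decide +kernel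

theorem count_UU : ∀ i : Fin 4, count setU setU (alpha i) = ![36, 72, 36, 72] i := by decide +kernel
theorem count_WW : ∀ i : Fin 4, count setW setW (alpha i) = ![72, 36, 72, 36] i := by decide +kernel
theorem count_UW : ∀ i : Fin 4, count setU setW (alpha i) = 0 := by decide +kernel
theorem count_UUZ : ∀ i : Fin 4, count (setU ∪ setZ) (setU ∪ setZ) (alpha i) = ![576, 396, 144, 396] i := by
  decide +kernel
theorem count_UZW : ∀ i : Fin 4, count (setU ∪ setZ) setW (alpha i) = ![0, 108, 0, -108] i := by decide +kernel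

theorem card_setU : setU.card = 6 := by decide +kernel
theorem card_setW : setW.card = 6 := by decide +kernel
theorem u₀_sq : u₀ ^ 2 = 1 := by decide +kernel
theorem w₀_sq : w₀ ^ 2 = 1 := by decide +kernel
theorem z₀_sq : z₀ ^ 2 = 1 := by decide +kernel
theorem u₀_ne : u₀ ≠ 1 := by decide +kernel
theorem w₀_ne : w₀ ≠ 1 := by decide +kernel
theorem z₀_ne : z₀ ≠ 1 := by decide +kernel

/-- A relation giving the values at `u₀` modulo three. -/
theorem indicatorU : ∀ x : K, alpha 0 x - alpha 2 x + 3 * (thA x - la x * thA x) =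
    if x ∈ setU then 12 else 0 := by decide +kernel
theorem indicatorW : ∀ x : K, alpha 1 x - alpha 3 x + 3 * (thB x - lb x * thB x) =
    if x ∈ setW then 12 else 0 := by decide +kernel

/-- A relation giving degrees modulo nine. -/
def auxDeg (x : K) : ℤ :=
  thA x + la x * thA x + thB x + lb x * thB x - 1 - la x - lb x - la x * lb x - 2 * chiTwo x

theorem indicatorOne : ∀ x : K, 5 * (alpha 0 x + alpha 1 x + alpha 2 x + alpha 3 x) + 9 * auxDeg x =
    if x = 1 then 72 else 0 := by decide +kernel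

/-! ### the automorphism exchanging axes and diagonals -/

def dot (t : ZMod 3) (e : Bool) : D3 := bif e then .sr (-t) else .r t

def tr : D3 → ZMod 3
  | .r i => i
  | .sr i => -i

def bit : D3 → Bool
  | .r _ => false
  | .sr _ => true

/-- The automorphism induced by `(s, t) ↦ (s + t, s - t)`. -/
def flipFun (x : K) : K :=
  bif xor (bit x.a) (bit x.b) then
    ⟨dot (tr x.a + tr x.b) (xor (bit x.a) x.w), dot (tr x.a - tr x.b) (bit x.a), true⟩
  else ⟨dot (tr x.a + tr x.b) (bit x.a), dot (tr x.a - tr x.b) (xor (bit x.a) x.w), false⟩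

theorem flip_mul : ∀ x y : K, flipFun (x * y) = flipFun x * flipFun y := by decide +kernel
theorem flip_inj : ∀ x : K, flipFun x = 1 → x = 1 := by decide +kernel

def flipHom : K →* K where
  toFun := flipFun
  map_one' := by decide +kernel
  map_mul' := flip_mul

theorem flipHom_injective : Function.Injective flipHom :=
  (injective_iff_map_eq_one flipHom).2 flip_inj

end H6.Three
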