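import Cfsg.Agent.H6.Three.Table
import Cfsg.Agent.H6.Three.Four

/-!
The signed coefficient data of the exceptional virtual characters: only the pattern of the symmetric
group of degree six survives, and there a character of degree one appears.
-/

set_option autoImplicit false
set_option linter.all false

namespace H6.Three

universe u

/-- Signed coefficient data. -/
structure SData (ι : Type u) [Fintype ι] where
  c : Fin 4 → ι → ℤ
  D : ι → ℤ
  o : ι
  co : ∀ i, c i o = if i.val < 2 then 1 else 0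
  Do : D o = 1
  Dne : ∀ x, D x ≠ 0
  gram : ∀ i j, ∑ x, c i x * c j x = gramK i j
  cD : ∀ i, ∑ x, c i x * D x = 0
  deg : ∀ x, (9 : ℤ) ∣ D x - 5 * (c 0 x + c 1 x + c 2 x + c 3 x)
  unit : ∀ i x, c i x = 0 ∨ c i x = 1 ∨ c i x = -1
  nonneg2 : ∀ x, 0 ≤ c 2 x
  nonneg3 : ∀ x, 0 ≤ c 3 x

/-- The values on two classes of involutions. -/
structure SVals {ι : Type u} [Fintype ι] (S : SData ι) (f11 f12 f22 g : Fin 4 → ℤ) where
  V : ι → ℤ
  W : ι → ℤ
  Vo : V S.o = 1
  Wo : W S.o = 1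
  cV : ∀ i, ∑ x, S.c i x * V x = 0
  cW : ∀ i, ∑ x, S.c i x * W x = 0
  K : ℚ
  p : ℚ
  q : ℚ
  hK : K ≠ 0
  hp : p ≠ 0
  hq : q ≠ 0
  q11 : ∀ i, ∑ x, (S.c i x : ℚ) * ((V x : ℚ) * V x / S.D x) = K * p * p * f11 i
  q12 : ∀ i, ∑ x, (S.c i x : ℚ) * ((V x : ℚ) * W x / S.D x) = K * p * q * f12 i
  q22 : ∀ i, ∑ x, (S.c i x : ℚ) * ((W x : ℚ) * W x / S.D x) = K * q * q * f22 i
  hdet : ∀ i, f11 i * f22 i - f12 i * f12 i = 2592 * (g i * g i)
  hg : ∀ i, g i ≠ 0

namespace SData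

variable {ι : Type u} [Fintype ι] (S : SData ι)

theorem norm_four (i : Fin 4) : ∑ x, S.c i x * S.c i x = 4 := by
  rw [S.gram]; fin_cases i <;> rfl

theorem sq_of_ne (i : Fin 4) {x : ι} (h : S.c i x ≠ 0) : S.c i x * S.c i x = 1 := by
  rcases S.unit i x with e | e | e
  · exact absurd e h
  · rw [e]; rfl
  · rw [e]; rfl

theorem card_support [DecidableEq ι] (i : Fin 4) : (Finset.univ.filter fun x => S.c i x ≠ 0).card = 4 := by
  have h := S.norm_four i
  have h2 : ∑ x, S.c i x * S.c i x = ∑ x ∈ Finset.univ.filter (fun x => S.c i x ≠ 0), (1 : ℤ) := by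
    rw [← Finset.sum_filter_ne_zero, Finset.sum_congr]
    · ext x
      simp only [Finset.mem_filter, Finset.mem_univ, true_and, ne_eq, mul_eq_zero, or_self]
    · intro x hx
      exact S.sq_of_ne i (Finset.mem_filter.1 hx).2
  rw [h2, Finset.sum_const, nsmul_eq_mul, mul_one] at h
  exact_mod_cast h

/-- An enumeration of a support. -/
theorem exists_four (i : Fin 4) : ∃ e : Fin 4 → ι, Function.Injective e ∧ (∀ k, S.c i (e k) ≠ 0) ∧
    ∀ x, S.c i x ≠ 0 → ∃ k, e k = x := by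
  classical
  let s := Finset.univ.filter fun x => S.c i x ≠ 0
  let e := (s.equivFinOfCardEq (S.card_support i)).symm
  refine ⟨fun k => (e k).1, fun a b h => e.injective (Subtype.ext h), fun k => (Finset.mem_filter.1 (e k).2).2,
    fun x hx => ⟨e.symm ⟨x, by simp [s, hx]⟩, by simp⟩⟩

/-- An enumeration of a support starting with three given points. -/
theorem exists_four_of (i : Fin 4) {x y z : ι} (hx : S.c i x ≠ 0) (hy : S.c i y ≠ 0) (hz : S.c i z ≠ 0)
    (hxy : x ≠ y) (hxz : x ≠ z) (hyz : y ≠ z) :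
    ∃ e : Fin 4 → ι, e 0 = x ∧ e 1 = y ∧ e 2 = z ∧ Function.Injective e ∧ (∀ k, S.c i (e k) ≠ 0) ∧
      ∀ w, S.c i w ≠ 0 → ∃ k, e k = w := by
  classical
  let s := Finset.univ.filter fun w => S.c i w ≠ 0
  have hsub : ({x, y, z} : Finset ι) ⊆ s := by
    intro w hw
    simp only [Finset.mem_insert, Finset.mem_singleton] at hw
    rcases hw with rfl | rfl | rfl <;> simp [s, *]
  have hc3 : ({x, y, z} : Finset ι).card = 3 := by simp [hxy, hxz, hyz]
  have hc : (s \ {x, y, z}).card = 1 := by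
    rw [Finset.card_sdiff_of_subset hsub, S.card_support i, hc3]
  obtain ⟨w, hw⟩ := Finset.card_eq_one.1 hc
  have hwm : w ∈ s \ {x, y, z} := by rw [hw]; simp
  simp only [Finset.mem_sdiff, Finset.mem_insert, Finset.mem_singleton, not_or, s, Finset.mem_filter,
    Finset.mem_univ, true_and] at hwm
  obtain ⟨hwc, hwx, hwy, hwz⟩ := hwm
  refine ⟨![x, y, z, w], rfl, rfl, rfl, ?_, ?_, ?_⟩
  · intro a b h
    fin_cases a <;> fin_cases b <;> first | rfl | (exfalso; simp at h; simp_all)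
  · intro k; fin_cases k <;> assumption
  · intro v hv
    by_cases h : v ∈ ({x, y, z} : Finset ι)
    · simp only [Finset.mem_insert, Finset.mem_singleton] at h
      rcases h with rfl | rfl | rfl
      exacts [⟨0, rfl⟩, ⟨1, rfl⟩, ⟨2, rfl⟩]
    · have : v ∈ s \ {x, y, z} := Finset.mem_sdiff.2 ⟨by simp [s, hv], h⟩
      rw [hw, Finset.mem_singleton] at this
      exact ⟨3, this.symm⟩

theorem sum_four {i : Fin 4} {e : Fin 4 → ι} (he : Function.Injective e)
    (hcov : ∀ x, S.c i x ≠ 0 → ∃ k, e k = x) (F : ι → ℚ) :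
    ∑ x, (S.c i x : ℚ) * F x = ∑ k, (S.c i (e k) : ℚ) * F (e k) := by
  classical
  rw [← Finset.sum_subset (Finset.subset_univ (Finset.univ.image e)) (fun x _ hx => ?_),
    Finset.sum_image (fun a _ b _ h => he h)]
  by_cases h : S.c i x = 0
  · simp [h]
  · obtain ⟨k, hk⟩ := hcov x h
    exact absurd (Finset.mem_image.2 ⟨k, Finset.mem_univ _, hk⟩) hx

/-- The parity of the three-adic valuation. -/
noncomputable def par2 (x : ι) : ZMod 2 := (padicValInt 3 (S.D x) : ZMod 2)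

theorem dvd_iff (x : ι) : (3 : ℤ) ∣ S.D x ↔ (3 : ℤ) ∣ (S.c 0 x + S.c 1 x + S.c 2 x + S.c 3 x) := by
  have h := S.deg x
  omega

theorem par2_eq_zero {x : ι} (h : (S.c 0 x + S.c 1 x + S.c 2 x + S.c 3 x) % 3 ≠ 0) : S.par2 x = 0 := by
  have : ¬ (3 : ℤ) ∣ S.D x := fun hd => h (Int.emod_eq_zero_of_dvd ((S.dvd_iff x).1 hd))
  rw [par2, padicValInt.eq_zero_of_not_dvd this, Nat.cast_zero]

theorem par2_eq_one {x : ι} (h : S.c 0 x + S.c 1 x + S.c 2 x + S.c 3 x = 3 ∨
    S.c 0 x + S.c 1 x + S.c 2 x + S.c 3 x = -3) : S.par2 x = 1 := by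
  haveI : Fact (Nat.Prime 3) := ⟨Nat.prime_three⟩
  have h3 : (3 : ℤ) ∣ S.D x := (S.dvd_iff x).2 (by rcases h with e | e <;> rw [e] <;> norm_num)
  have h9 : ¬ (9 : ℤ) ∣ S.D x := by
    intro hd
    have := S.deg x
    omega
  have e : padicValInt 3 (S.D x) = 1 := by
    have h1 := padicValInt_dvd_iff (p := 3) 1 (S.D x)
    have h2 := padicValInt_dvd_iff (p := 3) 2 (S.D x)
    norm_num at h1 h2
    have a1 := h1.1 h3
    have a2 : ¬ (S.D x = 0 ∨ 2 ≤ padicValInt 3 (S.D x)) := fun hh => h9 (h2.2 hh)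
    simp only [S.Dne x, false_or, not_le] at a1 a2
    omega
  rw [par2, e, Nat.cast_one]

end SData

namespace SVals

variable {ι : Type u} [Fintype ι] {S : SData ι} {f11 f12 f22 g : Fin 4 → ℤ} (T : SVals S f11 f12 f22 g)

noncomputable def mu (i : Fin 4) (x : ι) : ℚ := (S.c i x : ℚ) * S.D x
noncomputable def omV (x : ι) : ℚ := (T.V x : ℚ) / S.D x
noncomputable def omW (x : ι) : ℚ := (T.W x : ℚ) / S.D x

theorem four_setup (i : Fin 4) {e : Fin 4 → ι} (he : Function.Injective e) (hne : ∀ k, S.c i (e k) ≠ 0)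
    (hcov : ∀ x, S.c i x ≠ 0 → ∃ k, e k = x) :
    (∀ k, mu (S := S) i (e k) ≠ 0) ∧ ∑ k, mu (S := S) i (e k) = 0 ∧
      ∑ k, mu (S := S) i (e k) * T.omV (e k) = 0 ∧ ∑ k, mu (S := S) i (e k) * T.omW (e k) = 0 ∧
      q4 (fun k => mu (S := S) i (e k)) (fun k => T.omV (e k)) (fun k => T.omV (e k)) = T.K * T.p * T.p * f11 i ∧
      q4 (fun k => mu (S := S) i (e k)) (fun k => T.omV (e k)) (fun k => T.omW (e k)) = T.K * T.p * T.q * f12 i ∧
      q4 (fun k => mu (S := S) i (e k)) (fun k => T.omW (e k)) (fun k => T.omW (e k)) = T.K * T.q * T.q * f22 i := by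
  have hD : ∀ x, (S.D x : ℚ) ≠ 0 := fun x => by exact_mod_cast S.Dne x
  refine ⟨fun k => mul_ne_zero (by exact_mod_cast hne k) (hD _), ?_, ?_, ?_, ?_, ?_, ?_⟩
  · rw [show ∑ k, mu (S := S) i (e k) = ∑ k, (S.c i (e k) : ℚ) * (S.D (e k) : ℚ) from rfl,
      ← S.sum_four he hcov (fun x => (S.D x : ℚ))]
    exact_mod_cast S.cD i
  · have h : ∀ k, mu (S := S) i (e k) * T.omV (e k) = (S.c i (e k) : ℚ) * (T.V (e k) : ℚ) := fun k => by
      simp only [mu, omV]; field_simp [hD]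
    rw [Finset.sum_congr rfl fun k _ => h k, ← S.sum_four he hcov (fun x => (T.V x : ℚ))]
    exact_mod_cast T.cV i
  · have h : ∀ k, mu (S := S) i (e k) * T.omW (e k) = (S.c i (e k) : ℚ) * (T.W (e k) : ℚ) := fun k => by
      simp only [mu, omW]; field_simp [hD]
    rw [Finset.sum_congr rfl fun k _ => h k, ← S.sum_four he hcov (fun x => (T.W x : ℚ))]
    exact_mod_cast T.cW i
  · rw [← T.q11 i, S.sum_four he hcov (fun x => (T.V x : ℚ) * T.V x / S.D x)]
    simp only [q4, mu, omV]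
    exact Finset.sum_congr rfl fun k _ => by field_simp [hD]
  · rw [← T.q12 i, S.sum_four he hcov (fun x => (T.V x : ℚ) * T.W x / S.D x)]
    simp only [q4, mu, omV, omW]
    exact Finset.sum_congr rfl fun k _ => by field_simp [hD]
  · rw [← T.q22 i, S.sum_four he hcov (fun x => (T.W x : ℚ) * T.W x / S.D x)]
    simp only [q4, mu, omW]
    exact Finset.sum_congr rfl fun k _ => by field_simp [hD]

/-- The determinant identity on a support. -/
theorem det_eq (i : Fin 4) {e : Fin 4 → ι} (he : Function.Injective e) (hne : ∀ k, S.c i (e k) ≠ 0)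
    (hcov : ∀ x, S.c i x ≠ 0 → ∃ k, e k = x) :
    ∃ E : ℤ, (E : ℚ) ^ 2 = -((T.K * T.p * T.q) ^ 2 * 2592) * ((g i : ℚ) ^ 2) *
      ∏ k, ((S.c i (e k) * S.D (e k) : ℤ) : ℚ) := by
  obtain ⟨hm, h0, hU, hW, a, b, c⟩ := T.four_setup i he hne hcov
  have h := q4_det _ _ _ hm h0 hU hW
  rw [a, b, c] at h
  have hd : ((f11 i : ℚ) * f22 i - (f12 i : ℚ) * f12 i) = 2592 * ((g i : ℚ) * g i) := by exact_mod_cast T.hdet i
  have hD : ∀ x, (S.D x : ℚ) ≠ 0 := fun x => by exact_mod_cast S.Dne x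
  let v : Fin 4 → ℤ := fun k => S.c i (e k) * T.V (e k)
  let w : Fin 4 → ℤ := fun k => S.c i (e k) * T.W (e k)
  let m : Fin 4 → ℤ := fun k => S.c i (e k) * S.D (e k)
  refine ⟨m 0 * (v 1 * w 2 - v 2 * w 1) - m 1 * (v 0 * w 2 - v 2 * w 0) + m 2 * (v 0 * w 1 - v 1 * w 0), ?_⟩
  have hv : ∀ k, mu (S := S) i (e k) * T.omV (e k) = (v k : ℚ) := fun k => by
    simp only [mu, omV, v]; push_cast; field_simp [hD]
  have hw : ∀ k, mu (S := S) i (e k) * T.omW (e k) = (w k : ℚ) := fun k => by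
    simp only [mu, omW, w]; push_cast; field_simp [hD]
  have hmm : ∀ k, mu (S := S) i (e k) = (m k : ℚ) := fun k => by simp [mu, m]
  simp only [hv, hw] at h
  simp only [hmm] at h
  rw [Fin.prod_univ_four]
  simp only [m] at h ⊢
  push_cast at h ⊢
  linear_combination h - (T.K * T.p * T.q) ^ 2 * ((S.c i (e 0) : ℚ) * S.D (e 0) * ((S.c i (e 1) : ℚ) * S.D (e 1)) *
    ((S.c i (e 2) : ℚ) * S.D (e 2)) * ((S.c i (e 3) : ℚ) * S.D (e 3))) * hd

include T in
/-- All supports have the same parity of valuations. -/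
theorem parity (i j : Fin 4) :
    ∑ x, (S.c i x : ZMod 2) * S.par2 x = ∑ x, (S.c j x : ZMod 2) * S.par2 x := by
  classical
  haveI : Fact (Nat.Prime 3) := ⟨Nat.prime_three⟩
  obtain ⟨e, he, hne, hcov⟩ := S.exists_four i
  obtain ⟨e', he', hne', hcov'⟩ := S.exists_four j
  obtain ⟨E, hE⟩ := T.det_eq i he hne hcov
  obtain ⟨E', hE'⟩ := T.det_eq j he' hne' hcov'
  set P : ℤ := ∏ k, S.c i (e k) * S.D (e k) with hP
  set P' : ℤ := ∏ k, S.c j (e' k) * S.D (e' k) with hP'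
  have hP0 : P ≠ 0 := Finset.prod_ne_zero_iff.2 fun k _ => mul_ne_zero (hne k) (S.Dne _)
  have hP0' : P' ≠ 0 := Finset.prod_ne_zero_iff.2 fun k _ => mul_ne_zero (hne' k) (S.Dne _)
  rw [← Int.cast_prod, ← hP] at hE
  rw [← Int.cast_prod, ← hP'] at hE'
  have hkey : (E * g j) ^ 2 * P' = (E' * g i) ^ 2 * P := by
    have : ((E : ℚ) * g j) ^ 2 * P' = ((E' : ℚ) * g i) ^ 2 * P := by
      linear_combination ((g j : ℚ) ^ 2 * P') * hE - ((g i : ℚ) ^ 2 * P) * hE'
    exact_mod_cast this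
  have hE0 : E ≠ 0 := by
    intro h0
    rw [h0] at hE
    have : -((T.K * T.p * T.q) ^ 2 * 2592) * ((g i : ℚ) ^ 2) * (P : ℚ) ≠ 0 := by
      simp [T.hg i, T.hK, T.hp, T.hq, hP0]
    exact this (by simpa using hE.symm)
  have hE0' : E' ≠ 0 := by
    intro h0
    rw [h0] at hE'
    have : -((T.K * T.p * T.q) ^ 2 * 2592) * ((g j : ℚ) ^ 2) * (P' : ℚ) ≠ 0 := by
      simp [T.hg j, T.hK, T.hp, T.hq, hP0']
    exact this (by simpa using hE'.symm)
  have hv := congrArg (fun z : ℤ => (padicValInt 3 z : ZMod 2)) hkey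
  have hval : ∀ a b : ℤ, a ≠ 0 → b ≠ 0 → ((padicValInt 3 (a ^ 2 * b) : ℕ) : ZMod 2) = padicValInt 3 b := by
    intro a b ha hb
    rw [padicValInt.mul (pow_ne_zero 2 ha) hb, sq, padicValInt.mul ha ha]
    push_cast
    rw [← two_mul, show (2 : ZMod 2) = 0 from rfl, zero_mul, zero_add]
  simp only [hval _ _ (mul_ne_zero hE0 (T.hg j)) hP0', hval _ _ (mul_ne_zero hE0' (T.hg i)) hP0] at hv
  have hcnt : ∀ (l : Fin 4) (f : Fin 4 → ι), Function.Injective f → (∀ k, S.c l (f k) ≠ 0) →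
      (∀ x, S.c l x ≠ 0 → ∃ k, f k = x) →
      ((padicValInt 3 (∏ k, S.c l (f k) * S.D (f k)) : ℕ) : ZMod 2) = ∑ x, (S.c l x : ZMod 2) * S.par2 x := by
    intro l f hf hnef hcovf
    have h1 : ∀ k, padicValInt 3 (S.c l (f k) * S.D (f k)) = padicValInt 3 (S.D (f k)) := by
      intro k
      rw [padicValInt.mul (hnef k) (S.Dne _)]
      rcases S.unit l (f k) with z | z | z
      · exact absurd z (hnef k)
      · simp [z]
      · simp [z, padicValInt]
    have hn : ∀ k, S.c l (f k) * S.D (f k) ≠ 0 := fun k => mul_ne_zero (hnef k) (S.Dne _)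
    rw [Fin.prod_univ_four, padicValInt.mul (mul_ne_zero (mul_ne_zero (hn 0) (hn 1)) (hn 2)) (hn 3),
      padicValInt.mul (mul_ne_zero (hn 0) (hn 1)) (hn 2), padicValInt.mul (hn 0) (hn 1), h1, h1, h1, h1]
    rw [← Finset.sum_subset (Finset.subset_univ (Finset.univ.image f)) (fun x _ hx => ?_),
      Finset.sum_image (fun a _ b _ h => hf h), Fin.sum_univ_four]
    · have h2 : ∀ k, (S.c l (f k) : ZMod 2) = 1 := by
        intro k
        rcases S.unit l (f k) with z | z | z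
        · exact absurd z (hnef k)
        · simp [z]
        · simp [z]
      simp only [h2, one_mul, SData.par2]
      push_cast
      ring
    · by_cases h : S.c l x = 0
      · simp [h]
      · obtain ⟨k, hk⟩ := hcovf x h
        exact absurd (Finset.mem_image.2 ⟨k, Finset.mem_univ _, hk⟩) hx
  rw [hP, hP', hcnt i e he hne hcov, hcnt j e' he' hne' hcov'] at hv
  exact hv.symm

/-- The frame identities at a common point. -/
theorem pair_eq (i : Fin 4) {x y z : ι} (hx : S.c i x = 1) (hy : S.c i y = 1) (hz : S.c i z = 1)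
    (hxy : x ≠ y) (hxz : x ≠ z) (hyz : y ≠ z) :
    let U := fun v => T.omV v / T.p
    let W := fun v => T.omW v / T.q
    ((f22 i : ℚ) * (U y - U x) ^ 2 - 2 * f12 i * (U y - U x) * (W y - W x) + f11 i * (W y - W x) ^ 2 =
        T.K * (2592 * ((g i : ℚ) * g i)) * (1 / S.D x + 1 / S.D y)) ∧
      ((f22 i : ℚ) * (U y - U x) * (U z - U x)
        - f12 i * ((U y - U x) * (W z - W x) + (U z - U x) * (W y - W x))
        + f11 i * (W y - W x) * (W z - W x) = T.K * (2592 * ((g i : ℚ) * g i)) * (1 / S.D x)) := by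
  intro U W
  obtain ⟨e, e0, e1, e2, he, hne, hcov⟩ := S.exists_four_of i (by omega : S.c i x ≠ 0) (by omega : S.c i y ≠ 0)
    (by omega : S.c i z ≠ 0) hxy hxz hyz
  obtain ⟨hm, h0, hU, hW, a, b, c⟩ := T.four_setup i he hne hcov
  have h1 := q4_pair _ _ _ hm h0 hU hW
  have h2 := q4_triple _ _ _ hm h0 hU hW
  have hd : ((f11 i : ℚ) * f22 i - (f12 i : ℚ) * f12 i) = 2592 * ((g i : ℚ) * g i) := by exact_mod_cast T.hdet i
  have hp := T.hp; have hq := T.hq; have hK := T.hK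
  rw [a, b, c, e0, e1] at h1
  rw [a, b, c, e0, e1, e2] at h2
  simp only [mu, hx, hy, Int.cast_one, one_mul] at h1 h2
  have hcst : T.K * T.p * T.p * T.q * T.q ≠ 0 := by simp [*]
  constructor
  · apply mul_left_cancel₀ hcst
    have hU' : ∀ v, T.omV v = T.p * U v := fun v => by simp only [U]; field_simp
    have hW' : ∀ v, T.omW v = T.q * W v := fun v => by simp only [W]; field_simp
    simp only [hU', hW'] at h1
    linear_combination h1 + (T.K * T.K * T.p * T.p * T.q * T.q) * (1 / (S.D x : ℚ) + 1 / S.D y) * hd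
  · apply mul_left_cancel₀ hcst
    have hU' : ∀ v, T.omV v = T.p * U v := fun v => by simp only [U]; field_simp
    have hW' : ∀ v, T.omW v = T.q * W v := fun v => by simp only [W]; field_simp
    simp only [hU', hW'] at h2
    linear_combination h2 + (T.K * T.K * T.p * T.p * T.q * T.q) * (1 / (S.D x : ℚ)) * hd

end SVals

end H6.Three
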