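import Cfsg.Agent.H6.Three.Pattern

/-!
The only admissible pattern of coefficients.
-/

set_option autoImplicit false
set_option linter.all false

namespace H6.Three

universe u

theorem ValA.two_le_check : ∀ a ∈ allRows.filter (fun a => decide (ValA a)),
    2 ≤ ∑ i, ent (a i) * ent (a i) := by decide +kernel

theorem ValB.two_le_check : ∀ b ∈ allRows.filter (fun b => decide (ValB b)),
    2 ≤ ∑ i, ent (b i) * ent (b i) := by decide +kernel

theorem par_eq_sum : ∀ f : Fin 6 → Bool,
    (List.finRange 6).foldl (fun acc i => xor acc (f i)) false =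
      decide ((∑ i, if f i then (1 : ZMod 2) else 0) = 1) := by decide +kernel

theorem exists_ent {z : ℤ} (h : z = 0 ∨ z = 1 ∨ z = -1) : ∃ k : Fin 3, ent k = z := by
  rcases h with h | h | h <;> subst h
  exacts [⟨1, rfl⟩, ⟨2, rfl⟩, ⟨0, rfl⟩]

/-- The shape of the coefficients of the symmetric group of degree six. -/
structure Roles {ι : Type u} [Fintype ι] (S : SData ι) where
  x1 : ι
  x2 : ι
  x4 : ι
  x6 : ι
  r1 : ∀ i, S.c i x1 = 1
  r2 : S.c 0 x2 = 1 ∧ S.c 1 x2 = 0 ∧ S.c 2 x2 = 0 ∧ S.c 3 x2 = 1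
  r4 : S.c 0 x4 = 0 ∧ S.c 1 x4 = 1 ∧ S.c 2 x4 = 1 ∧ S.c 3 x4 = 0
  r6 : S.c 0 x6 = 0 ∧ S.c 1 x6 = 0 ∧ S.c 2 x6 = 1 ∧ S.c 3 x6 = 1

namespace SVals

variable {ι : Type u} [Fintype ι] {S : SData ι} {f11 f12 f22 g : Fin 4 → ℤ} (T : SVals S f11 f12 f22 g)

include T in
theorem exists_roles : Nonempty (Roles S) := by
  classical
  set P := Finset.univ.filter (fun x => S.c 2 x ≠ 0 ∧ S.c 3 x ≠ 0) with hP
  set R := Finset.univ.filter (fun x => S.c 2 x ≠ 0 ∧ S.c 3 x = 0) with hR
  set U := Finset.univ.filter (fun x => S.c 2 x = 0 ∧ S.c 3 x ≠ 0) with hU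
  have one2 : ∀ x, S.c 2 x ≠ 0 → S.c 2 x = 1 := fun x h => by
    rcases S.unit 2 x with e | e | e
    · exact absurd e h
    · exact e
    · have := S.nonneg2 x; omega
  have one3 : ∀ x, S.c 3 x ≠ 0 → S.c 3 x = 1 := fun x h => by
    rcases S.unit 3 x with e | e | e
    · exact absurd e h
    · exact e
    · have := S.nonneg3 x; omega
  have h23 : (P.card : ℤ) = 2 := by
    have h := S.gram 2 3
    rw [← Finset.sum_subset (Finset.subset_univ P) (fun x _ hx => ?_)] at h
    · rw [Finset.sum_congr rfl (fun x hx => by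
        rw [one2 x (Finset.mem_filter.1 hx).2.1, one3 x (Finset.mem_filter.1 hx).2.2, one_mul] :
          ∀ x ∈ P, S.c 2 x * S.c 3 x = 1)] at h
      simpa [gramK] using h
    · simp only [hP, Finset.mem_filter, Finset.mem_univ, true_and, not_and, not_not] at hx
      by_cases h2 : S.c 2 x = 0
      · simp [h2]
      · simp [hx h2]
  have hPc : P.card = 2 := by exact_mod_cast h23
  have hRc : R.card = 2 := by
    have h := S.card_support 2
    rw [← Finset.card_filter_add_card_filter_not (p := fun x => S.c 3 x ≠ 0), Finset.filter_filter,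
      Finset.filter_filter, ← hP] at h
    have : R = Finset.univ.filter (fun x => S.c 2 x ≠ 0 ∧ ¬ S.c 3 x ≠ 0) := by
      rw [hR]; ext x; simp
    rw [← this, hPc] at h
    omega
  have hUc : U.card = 2 := by
    have h := S.card_support 3
    rw [← Finset.card_filter_add_card_filter_not (p := fun x => S.c 2 x ≠ 0), Finset.filter_filter,
      Finset.filter_filter] at h
    have e1 : P = Finset.univ.filter (fun x => S.c 3 x ≠ 0 ∧ S.c 2 x ≠ 0) := by
      rw [hP]; ext x; simp [and_comm]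
    have e2 : U = Finset.univ.filter (fun x => S.c 3 x ≠ 0 ∧ ¬ S.c 2 x ≠ 0) := by
      rw [hU]; ext x; simp [and_comm]
    rw [← e1, ← e2, hPc] at h
    omega
  obtain ⟨p, q, hpq, hPe⟩ := Finset.card_eq_two.1 hPc
  obtain ⟨r, s, hrs, hRe⟩ := Finset.card_eq_two.1 hRc
  obtain ⟨t, w, htw, hUe⟩ := Finset.card_eq_two.1 hUc
  let e : Fin 6 → ι := ![p, q, r, s, t, w]
  have mP : ∀ x, x ∈ P ↔ x = p ∨ x = q := fun x => by rw [hPe]; simp
  have mR : ∀ x, x ∈ R ↔ x = r ∨ x = s := fun x => by rw [hRe]; simp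
  have mU : ∀ x, x ∈ U ↔ x = t ∨ x = w := fun x => by rw [hUe]; simp
  have hc2 : ∀ i, S.c 2 (e i) = cC i := by
    intro i
    have hp' := Finset.mem_filter.1 ((mP p).2 (Or.inl rfl))
    have hq' := Finset.mem_filter.1 ((mP q).2 (Or.inr rfl))
    have hr' := Finset.mem_filter.1 ((mR r).2 (Or.inl rfl))
    have hs' := Finset.mem_filter.1 ((mR s).2 (Or.inr rfl))
    have ht' := Finset.mem_filter.1 ((mU t).2 (Or.inl rfl))
    have hw' := Finset.mem_filter.1 ((mU w).2 (Or.inr rfl))
    fin_cases i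
    · exact one2 _ hp'.2.1
    · exact one2 _ hq'.2.1
    · exact one2 _ hr'.2.1
    · exact one2 _ hs'.2.1
    · exact ht'.2.1
    · exact hw'.2.1
  have hc3 : ∀ i, S.c 3 (e i) = cD i := by
    intro i
    have hp' := Finset.mem_filter.1 ((mP p).2 (Or.inl rfl))
    have hq' := Finset.mem_filter.1 ((mP q).2 (Or.inr rfl))
    have hr' := Finset.mem_filter.1 ((mR r).2 (Or.inl rfl))
    have hs' := Finset.mem_filter.1 ((mR s).2 (Or.inr rfl))
    have ht' := Finset.mem_filter.1 ((mU t).2 (Or.inl rfl))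
    have hw' := Finset.mem_filter.1 ((mU w).2 (Or.inr rfl))
    fin_cases i
    · exact one3 _ hp'.2.2
    · exact one3 _ hq'.2.2
    · exact hr'.2.2
    · exact hs'.2.2
    · exact one3 _ ht'.2.2
    · exact one3 _ hw'.2.2
  have hinj : Function.Injective e := by
    intro i j h
    have a := congrArg (S.c 2) h
    have b := congrArg (S.c 3) h
    rw [hc2, hc2] at a
    rw [hc3, hc3] at b
    fin_cases i <;> fin_cases j <;>
      first
        | rfl
        | exact absurd a (by decide)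
        | exact absurd b (by decide)
        | exact absurd h hpq
        | exact absurd h hpq.symm
        | exact absurd h hrs
        | exact absurd h hrs.symm
        | exact absurd h htw
        | exact absurd h htw.symm
  have hcov : ∀ x, x ∉ Finset.univ.image e → S.c 2 x = 0 ∧ S.c 3 x = 0 := by
    intro x hx
    have hne : ∀ i, e i ≠ x := fun i h => hx (Finset.mem_image.2 ⟨i, Finset.mem_univ _, h⟩)
    refine ⟨by_contra fun h2 => ?_, by_contra fun h3 => ?_⟩
    · by_cases h3 : S.c 3 x = 0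
      · rcases (mR x).1 (Finset.mem_filter.2 ⟨Finset.mem_univ _, h2, h3⟩) with rfl | rfl
        exacts [hne 2 rfl, hne 3 rfl]
      · rcases (mP x).1 (Finset.mem_filter.2 ⟨Finset.mem_univ _, h2, h3⟩) with rfl | rfl
        exacts [hne 0 rfl, hne 1 rfl]
    · by_cases h2 : S.c 2 x = 0
      · rcases (mU x).1 (Finset.mem_filter.2 ⟨Finset.mem_univ _, h2, h3⟩) with rfl | rfl
        exacts [hne 4 rfl, hne 5 rfl]
      · rcases (mP x).1 (Finset.mem_filter.2 ⟨Finset.mem_univ _, h2, h3⟩) with rfl | rfl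
        exacts [hne 0 rfl, hne 1 rfl]
  set J := Finset.univ \ Finset.univ.image e with hJ
  have hJm : ∀ x, x ∈ J → S.c 2 x = 0 ∧ S.c 3 x = 0 := fun x hx => hcov x (Finset.mem_sdiff.1 hx).2
  have hsplit : ∀ {M : Type} [AddCommMonoid M] (F : ι → M), ∑ x, F x = (∑ i, F (e i)) + ∑ x ∈ J, F x := by
    intro M _ F
    rw [← Finset.sum_image (fun a _ b _ h => hinj h), hJ, add_comm, Finset.sum_sdiff (Finset.subset_univ _)]
  choose a ha using fun i => exists_ent (S.unit 0 (e i))
  choose b hb using fun i => exists_ent (S.unit 1 (e i))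
  have hoJ : S.o ∈ J := by
    refine Finset.mem_sdiff.2 ⟨Finset.mem_univ _, fun h => ?_⟩
    obtain ⟨i, -, hi⟩ := Finset.mem_image.1 h
    have a2 := hc2 i
    have a3 := hc3 i
    rw [hi, S.co] at a2 a3
    fin_cases i <;> simp [cC, cD] at a2 a3
  have hsplitJ : ∀ (i j : Fin 4), i = 0 ∨ i = 1 → j = 0 ∨ j = 1 →
      ∑ x, S.c i x * S.c j x = (∑ k, S.c i (e k) * S.c j (e k)) + 1 + ∑ x ∈ J.erase S.o, S.c i x * S.c j x := by
    intro i j hi hj
    rw [hsplit (fun x => S.c i x * S.c j x), ← Finset.add_sum_erase J _ hoJ, S.co, S.co]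
    rcases hi with rfl | rfl <;> rcases hj with rfl | rfl <;> simp <;> ring
  have hlow : ∀ (i : Fin 4) (j : Fin 4), j = 2 ∨ j = 3 →
      ∑ x, S.c i x * S.c j x = ∑ k, S.c i (e k) * S.c j (e k) := by
    intro i j hj
    rw [hsplit (fun x => S.c i x * S.c j x), Finset.sum_eq_zero (s := J) (fun x hx => ?_), add_zero]
    rcases hj with rfl | rfl
    · rw [(hJm x hx).1, mul_zero]
    · rw [(hJm x hx).2, mul_zero]
  have hNA := hsplitJ 0 0 (Or.inl rfl) (Or.inl rfl)
  have hNB := hsplitJ 1 1 (Or.inr rfl) (Or.inr rfl)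
  have hAB := hsplitJ 0 1 (Or.inl rfl) (Or.inr rfl)
  have hAC := hlow 0 2 (Or.inl rfl)
  have hAD := hlow 0 3 (Or.inr rfl)
  have hBC := hlow 1 2 (Or.inl rfl)
  have hBD := hlow 1 3 (Or.inr rfl)
  rw [S.gram] at hNA hNB hAB hAC hAD hBC hBD
  simp only [← ha, ← hb, hc2, hc3] at hNA hNB hAB hAC hAD hBC hBD
  simp only [gramK, Matrix.cons_val_zero, Matrix.cons_val_one, Matrix.cons_val, Matrix.head_cons]
    at hNA hNB hAB hAC hAD hBC hBD
  set NA := ∑ x ∈ J.erase S.o, S.c 0 x * S.c 0 x with hNAdef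
  set NB := ∑ x ∈ J.erase S.o, S.c 1 x * S.c 1 x with hNBdef
  set NX := ∑ x ∈ J.erase S.o, S.c 0 x * S.c 1 x with hNXdef
  have nA0 : 0 ≤ NA := Finset.sum_nonneg fun x _ => mul_self_nonneg _
  have nB0 : 0 ≤ NB := Finset.sum_nonneg fun x _ => mul_self_nonneg _
  have hVA : ValA a := ⟨by omega, by omega, by omega⟩
  have hVB : ValB b := ⟨by omega, by omega, by omega⟩
  have hA2 := ValA.two_le_check a (List.mem_filter.2 ⟨mem_allRows a, decide_eq_true hVA⟩)
  have hB2 := ValB.two_le_check b (List.mem_filter.2 ⟨mem_allRows b, decide_eq_true hVB⟩)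
  -- outside the six points a row has at most one entry
  have honly : ∀ (i : Fin 4), (∑ x ∈ J.erase S.o, S.c i x * S.c i x) ≤ 1 → ∀ x ∈ J.erase S.o, S.c i x ≠ 0 →
      ∀ y ∈ J.erase S.o, S.c i y ≠ 0 → y = x := by
    intro i hi x hx hx0 y hy hy0
    by_contra hne
    have hle := Finset.sum_le_sum_of_subset_of_nonneg (f := fun z => S.c i z * S.c i z)
      (show ({x, y} : Finset ι) ⊆ J.erase S.o by
        intro z hz; simp only [Finset.mem_insert, Finset.mem_singleton] at hz; rcases hz with rfl | rfl <;> assumption)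
      (fun z _ _ => mul_self_nonneg _)
    rw [Finset.sum_pair (Ne.symm hne)] at hle
    have := S.sq_of_ne i hx0
    have := S.sq_of_ne i hy0
    omega
  have hNX : NX = 0 ∨ (NX = 1 ∧ 1 ≤ NA ∧ 1 ≤ NB) ∨ (NX = -1 ∧ 1 ≤ NA ∧ 1 ≤ NB) := by
    by_cases hz : ∀ x ∈ J.erase S.o, S.c 0 x * S.c 1 x = 0
    · exact Or.inl (Finset.sum_eq_zero hz)
    · simp only [not_forall] at hz
      obtain ⟨x, hx, hx0⟩ := hz
      have a0 : S.c 0 x ≠ 0 := fun h => hx0 (by rw [h, zero_mul])
      have b0 : S.c 1 x ≠ 0 := fun h => hx0 (by rw [h, mul_zero])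
      have e1 : NX = S.c 0 x * S.c 1 x := by
        refine Finset.sum_eq_single_of_mem x hx fun y hy hyx => ?_
        by_cases h : S.c 0 y = 0
        · rw [h, zero_mul]
        · exact absurd (honly 0 (by omega) x hx a0 y hy h) hyx
      have e2 : 1 ≤ NA := by
        have := Finset.single_le_sum (f := fun z => S.c 0 z * S.c 0 z) (fun z _ => mul_self_nonneg _) hx
        have := S.sq_of_ne 0 a0
        omega
      have e3 : 1 ≤ NB := by
        have := Finset.single_le_sum (f := fun z => S.c 1 z * S.c 1 z) (fun z _ => mul_self_nonneg _) hx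
        have := S.sq_of_ne 1 b0
        omega
      rcases S.unit 0 x with z | z | z <;> rcases S.unit 1 x with z' | z' | z' <;>
        first
          | exact absurd z a0
          | exact absurd z' b0
          | (rw [z, z'] at e1; norm_num at e1; omega)
  have hneg : NX ≠ -1 := by
    intro h
    exact (table a b hVA hVB).1 (by omega) (by omega)
  -- outside the six points every relevant parity vanishes
  have hout : ∀ i : Fin 4, i = 0 ∨ i = 1 → ∀ x ∈ J, (S.c i x : ZMod 2) * S.par2 x = 0 := by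
    intro i hi x hx
    by_cases hxo : x = S.o
    · rw [hxo, show S.par2 S.o = 0 by rw [SData.par2, S.Do]; simp [padicValInt], mul_zero]
    by_cases hci : S.c i x = 0
    · simp [hci]
    have hxe : x ∈ J.erase S.o := Finset.mem_erase.2 ⟨hxo, hx⟩
    obtain ⟨c2x, c3x⟩ := hJm x hx
    rw [S.par2_eq_zero, mul_zero]
    rw [c2x, c3x]
    by_cases hother : S.c 0 x = 0 ∨ S.c 1 x = 0
    · rcases S.unit 0 x with z | z | z <;> rcases S.unit 1 x with z' | z' | z' <;> rw [z, z'] <;>
        first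
          | decide
          | (exfalso; rcases hi with rfl | rfl <;> omega)
    · push Not at hother
      have e1 : NX = S.c 0 x * S.c 1 x := by
        refine Finset.sum_eq_single_of_mem x hxe fun y hy hyx => ?_
        by_cases h : S.c 0 y = 0
        · rw [h, zero_mul]
        · exact absurd (honly 0 (by omega) x hxe hother.1 y hy h) hyx
      rcases S.unit 0 x with z | z | z <;> rcases S.unit 1 x with z' | z' | z' <;>
        first
          | exact absurd z hother.1
          | exact absurd z' hother.2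
          | (rw [z, z'] at e1 ⊢; first | decide | omega)
  rcases (table a b hVA hVB).2 (by omega) with hbad | hgood
  · exfalso
    let free : Fin 6 → Bool := fun i => decide (S.par2 (e i) = 1)
    refine hbad free ?_
    have hδ : ∀ i, (if dlt (ent (a i) + ent (b i) + cC i + cD i) (free i) then (1 : ZMod 2) else 0) =
        S.par2 (e i) := by
      intro i
      have hs : ent (a i) + ent (b i) + cC i + cD i =
          S.c 0 (e i) + S.c 1 (e i) + S.c 2 (e i) + S.c 3 (e i) := by rw [ha, hb, hc2, hc3]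
      rw [hs]
      by_cases h3 : (S.c 0 (e i) + S.c 1 (e i) + S.c 2 (e i) + S.c 3 (e i)) % 3 = 0
      · by_cases h33 : S.c 0 (e i) + S.c 1 (e i) + S.c 2 (e i) + S.c 3 (e i) = 3 ∨
            S.c 0 (e i) + S.c 1 (e i) + S.c 2 (e i) + S.c 3 (e i) = -3
        · rw [S.par2_eq_one h33]
          simp [dlt, h3, h33]
        · simp only [dlt, h3, h33, free]
          rcases (show ∀ z : ZMod 2, z = 0 ∨ z = 1 by decide) (S.par2 (e i)) with z | z <;> simp [z]
      · rw [S.par2_eq_zero h3]
        simp [dlt, h3]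
    have hsum : ∀ (f : Fin 6 → ℤ) (l : Fin 4), (∀ i, S.c l (e i) = f i) →
        (∀ x ∈ J, (S.c l x : ZMod 2) * S.par2 x = 0) →
        par f (fun i => dlt (ent (a i) + ent (b i) + cC i + cD i) (free i)) =
          decide ((∑ x, (S.c l x : ZMod 2) * S.par2 x) = 1) := by
      intro f l hf hz
      rw [hsplit (fun x => (S.c l x : ZMod 2) * S.par2 x), Finset.sum_eq_zero (s := J) hz, add_zero, par,
        par_eq_sum]
      congr 2
      refine Finset.sum_congr rfl fun i _ => ?_
      rw [← hδ i, hf]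
      rcases S.unit l (e i) with z | z | z <;> rw [hf] at z <;> simp [z]
    have h2 : ∀ x ∈ J, (S.c 2 x : ZMod 2) * S.par2 x = 0 := fun x hx => by simp [(hJm x hx).1]
    have h3 : ∀ x ∈ J, (S.c 3 x : ZMod 2) * S.par2 x = 0 := fun x hx => by simp [(hJm x hx).2]
    rw [hsum _ 0 (fun i => (ha i).symm) (hout 0 (Or.inl rfl)), hsum _ 1 (fun i => (hb i).symm) (hout 1 (Or.inr rfl)),
      hsum _ 2 hc2 h2, hsum _ 3 hc3 h3, T.parity 0 2, T.parity 1 2, T.parity 3 2]
    exact ⟨rfl, rfl, rfl⟩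
  · obtain ⟨i1, i6, i2, i4, h1, h6, h2, h4, h4', a1, b1, a6, b6, a2, b2, a4, b4⟩ := hgood
    rw [ha] at a1 a6 a2 a4
    rw [hb] at b1 b6 b2 b4
    have k1 : cC i1 = 1 ∧ cD i1 = 1 := by simp [cC, cD]; omega
    have k6 : cC i6 = 1 ∧ cD i6 = 1 := by simp [cC, cD]; omega
    have k2 : cC i2 = 0 ∧ cD i2 = 1 := by simp [cC, cD]; omega
    have k4 : cC i4 = 1 ∧ cD i4 = 0 := by simp [cC, cD]; omega
    refine ⟨⟨e i1, e i2, e i4, e i6, ?_, ⟨a2, b2, by rw [hc2]; exact k2.1, by rw [hc3]; exact k2.2⟩,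
      ⟨a4, b4, by rw [hc2]; exact k4.1, by rw [hc3]; exact k4.2⟩,
      ⟨a6, b6, by rw [hc2]; exact k6.1, by rw [hc3]; exact k6.2⟩⟩⟩
    intro i
    fin_cases i
    · exact a1
    · exact b1
    · exact (hc2 i1).trans k1.1
    · exact (hc3 i1).trans k1.2

end SVals

end H6.Three
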