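import Cfsg.Agent.H6.Three.Dihedral

/-!
Finite facts about the model group of order 72 used in the recognition of degree six.
-/

set_option autoImplicit false
set_option linter.all false

namespace H6.Three

theorem rep_word : ∀ k : K, ∃ i j : ZMod 3, ∃ p q r : Bool,
    k = transl i j * ((bif p then u₀ else 1) * (bif q then w₀ * u₀ * w₀ else 1) * (bif r then w₀ else 1)) ∧
      la k * lb k = (bif p then -1 else 1) * (bif q then -1 else 1) * (bif r then -1 else 1) := by
  decide +kernel

theorem transl_comm_z₀ : ∀ i j : ZMod 3, transl i j = z₀ * transl i j * z₀⁻¹ * (transl i j)⁻¹ := by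
  decide +kernel

theorem sign_transl : ∀ i j : ZMod 3, la (transl i j) * lb (transl i j) = 1 := by decide +kernel

theorem sign_r₀ : la (u₀ * w₀) * lb (u₀ * w₀) = 1 := by decide +kernel

theorem transl_spec : ∀ i j : ZMod 3, (i ≠ 0 ∨ j ≠ 0) → Spec (transl i j) := by decide +kernel

theorem transl_ne : ∀ i j : ZMod 3, (i ≠ 0 ∨ j ≠ 0) → transl i j ≠ 1 := by decide +kernel

theorem transl_cases : ∀ i j : ZMod 3, transl i j = 1 ∨ (i ≠ 0 ∨ j ≠ 0) := by decide +kernel

theorem cube_cases : ∀ k : K, k ^ 3 = 1 → ∃ i j, k = transl i j := by decide +kernel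

theorem transl_cube : ∀ i j : ZMod 3, transl i j ^ 3 = 1 := by decide +kernel

theorem sign_centralizer : ∀ i j : ZMod 3, (i ≠ 0 ∨ j ≠ 0) → ∀ m : K, la m * lb m = 1 →
    m * transl i j = transl i j * m → m ^ 3 = 1 := by decide +kernel

theorem span_rotation : ∀ i j : ZMod 3, (i ≠ 0 ∨ j ≠ 0) → ∀ i' j' : ZMod 3, ∃ p q : Fin 3,
    transl i' j' = transl i j ^ (p : ℕ) * (u₀ * w₀ * transl i j * (u₀ * w₀)⁻¹) ^ (q : ℕ) := by
  decide +kernel

theorem span_true : ∀ m : K, m.w = true → la m * lb m = 1 → ∀ k : K, la k * lb k = 1 →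
    ∃ i j : ZMod 3, ∃ p : Fin 4, k = transl i j * m ^ (p : ℕ) := by decide +kernel

theorem false_cases : ∀ m : K, m.w = false → la m * lb m = 1 →
    (∃ i j, m = transl i j) ∨ ∃ i j, z₀ = transl i j * m := by decide +kernel

theorem false_conj : ∀ m : K, m.w = false → la m * lb m = 1 → ∀ i j : ZMod 3,
    m * transl i j * m⁻¹ = transl i j ∨ m * transl i j * m⁻¹ = transl (-i) (-j) := by decide +kernel

theorem z₀_conj : ∀ i j : ZMod 3, z₀ * transl i j * z₀⁻¹ = transl (-i) (-j) := by decide +kernel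

theorem transl_inv : ∀ i j : ZMod 3, (transl i j)⁻¹ = transl (-i) (-j) := by decide +kernel

/-- Representatives of the four lines. -/
def lineI : Fin 4 → ZMod 3 := ![1, 0, 1, 1]
/-- Second coordinates of representatives of the four lines. -/
def lineJ : Fin 4 → ZMod 3 := ![0, 1, 1, 2]

theorem line_ne : ∀ l : Fin 4, lineI l ≠ 0 ∨ lineJ l ≠ 0 := by decide +kernel

theorem line_cover : ∀ i j : ZMod 3, (i ≠ 0 ∨ j ≠ 0) → ∃ l,
    transl i j = transl (lineI l) (lineJ l) ∨ transl i j = transl (-lineI l) (-lineJ l) := by decide +kernel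

theorem line_inj : ∀ a b : Fin 4, (transl (lineI b) (lineJ b) = transl (lineI a) (lineJ a) ∨
    transl (lineI b) (lineJ b) = transl (-lineI a) (-lineJ a)) → a = b := by decide +kernel

theorem line_neg : ∀ l : Fin 4, transl (lineI l) (lineJ l) ≠ transl (-lineI l) (-lineJ l) := by decide +kernel

theorem two_classes_in_sign : ∀ k : K, la k * lb k = 1 → k * transl 1 0 * k⁻¹ ≠ transl 1 1 := by
  decide +kernel

theorem u₀_fix : u₀ * transl 0 1 * u₀⁻¹ = transl 0 1 := by decide +kernel

end H6.Three
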