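import Cfsg.Agent.H6.Three.SymModel
import Cfsg.Agent.H59.AltSixThree.Main
import Cfsg.Agent.H79.CoprimeGen
import Cfsg.Agent.H65.Order360
import Cfsg.Agent.H70.S6Classify

/-!
Recognition of the symmetric group of degree six from a self-centralising Sylow `3`-subgroup of
order nine with dihedral automizer and small centralisers.
-/

set_option autoImplicit false
set_option linter.all false

open Cfsg

namespace H6.Three

universe u

/-- The situation after the linear character has been found. -/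
structure Six (G : Type u) [Group G] (S : Subgroup G) where
  C : Config G
  range_eq : C.j.range = Subgroup.normalizer (S : Set G)
  f : G →* ℂˣ
  fu : f (C.j u₀) = -1
  fw : f (C.j w₀) = -1
  three : ∀ x ∈ Subgroup.normalizer (S : Set G), x ^ 3 = 1 → x ∈ S
  card9 : Nat.card S = 9
  exp3 : ∀ x ∈ S, x ^ 3 = 1
  comm : ∀ a ∈ S, ∀ b ∈ S, a * b = b * a
  self : Subgroup.centralizer (S : Set G) ≤ S
  cent : ∀ x ∈ S, x ≠ 1 → Subgroup.centralizer ({x} : Set G) ≤ Subgroup.normalizer (S : Set G)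
  P : Sylow 3 G
  hP : (P : Subgroup G) = S

namespace Six

variable {G : Type u} [Group G] [Finite G] {S : Subgroup G} (h : Six G S)

include h in
theorem j_mem (k : K) : h.C.j k ∈ Subgroup.normalizer (S : Set G) := h.range_eq ▸ ⟨k, rfl⟩

include h in
theorem transl_mem (i j : ZMod 3) : h.C.j (transl i j) ∈ S :=
  h.three _ (h.j_mem _) (by rw [← map_pow, transl_cube, map_one])

include h in
theorem exists_transl {x : G} (hx : x ∈ S) : ∃ i j, x = h.C.j (transl i j) := by
  have hxN : x ∈ h.C.j.range := h.range_eq ▸ Subgroup.le_normalizer hx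
  obtain ⟨k, rfl⟩ := hxN
  obtain ⟨i, j, rfl⟩ := cube_cases k (h.C.inj (by rw [map_pow, map_one]; exact h.exp3 _ hx))
  exact ⟨i, j, rfl⟩

include h in
theorem exists_transl_ne {x : G} (hx : x ∈ S) (hx1 : x ≠ 1) :
    ∃ i j, (i ≠ 0 ∨ j ≠ 0) ∧ x = h.C.j (transl i j) := by
  obtain ⟨i, j, rfl⟩ := h.exists_transl hx
  rcases transl_cases i j with e | e
  · exact absurd (by rw [e, map_one]) hx1
  · exact ⟨i, j, e, rfl⟩

include h in
theorem f_sign (k : K) : (f h (h.C.j k) = 1 ∧ la k * lb k = 1) ∨ (f h (h.C.j k) = -1 ∧ la k * lb k = -1) := by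
  obtain ⟨i, j, p, q, r, hk, hs⟩ := rep_word k
  have ht : h.f (h.C.j (transl i j)) = 1 := by
    rw [transl_comm_z₀]; simp only [map_mul, map_inv]
    rw [mul_comm (h.f (h.C.j z₀)), mul_inv_cancel_right, mul_inv_cancel]
  rw [hs]
  conv_lhs => rw [hk]
  conv_rhs => rw [hk]
  simp only [map_mul]
  rw [ht, one_mul]
  cases p <;> cases q <;> cases r <;> simp [map_mul, h.fu, h.fw]

/-- The kernel of the linear character. -/
def L : Subgroup G := h.f.ker

instance L_normal : h.L.Normal := MonoidHom.normal_ker _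

include h in
theorem mem_L_iff (k : K) : h.C.j k ∈ h.L ↔ la k * lb k = 1 := by
  rw [L, MonoidHom.mem_ker]
  rcases h.f_sign k with ⟨a, b⟩ | ⟨a, b⟩
  · simp [a, b]
  · rw [a, b]
    refine iff_of_false (fun e => ?_) (by norm_num)
    exact absurd (congrArg Units.val e) (by norm_num)

include h in
theorem S_le_L : S ≤ h.L := fun x hx => by
  obtain ⟨i, j, rfl⟩ := h.exists_transl hx
  exact (h.mem_L_iff _).2 (sign_transl i j)

include h in
theorem sup_eq : Subgroup.normalizer (S : Set G) ⊔ h.L = ⊤ := by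
  haveI : Fact (Nat.Prime 3) := ⟨Nat.prime_three⟩
  have := h.P.normalizer_sup_eq_top' (N := h.L) (h.hP.symm ▸ h.S_le_L)
  have e : ((h.P : Subgroup G) : Set G) = (S : Set G) := congrArg SetLike.coe h.hP
  rw [← e]
  exact this

include h in
theorem exists_mul (g : G) : ∃ n ∈ Subgroup.normalizer (S : Set G), ∃ l ∈ h.L, g = n * l := by
  have : g ∈ Subgroup.normalizer (S : Set G) ⊔ h.L := by rw [h.sup_eq]; exact Subgroup.mem_top g
  obtain ⟨n, hn, l, hl, e⟩ := Subgroup.mem_sup_of_normal_right.1 this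
  exact ⟨n, hn, l, hl, e.symm⟩

include h in
theorem index_L : h.L.index = 2 := by
  refine Subgroup.index_eq_two_iff.2 ⟨h.C.j u₀, fun b => ?_⟩
  obtain ⟨n, hn, l, hl, rfl⟩ := h.exists_mul b
  rw [← h.range_eq] at hn
  obtain ⟨k, rfl⟩ := hn
  rw [L, MonoidHom.mem_ker] at hl
  simp only [L, MonoidHom.mem_ker, map_mul, hl, mul_one, h.fu]
  have hne : (-1 : ℂˣ) ≠ 1 := fun e => absurd (congrArg Units.val e) (by norm_num)
  rcases h.f_sign k with ⟨a, -⟩ | ⟨a, -⟩
  · rw [a]; exact Or.inr ⟨rfl, by rw [one_mul]; exact hne⟩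
  · rw [a]; exact Or.inl ⟨by simp, hne⟩

include h in
theorem mem_of_commute {x g : G} (hx : x ∈ S) (hx1 : x ≠ 1) (hg : g ∈ h.L) (hc : g * x = x * g) :
    g ∈ S := by
  have hgN := h.cent x hx hx1 (Subgroup.mem_centralizer_singleton_iff.2 hc)
  rw [← h.range_eq] at hgN
  obtain ⟨m, rfl⟩ := hgN
  obtain ⟨i, j, hij, rfl⟩ := h.exists_transl_ne hx hx1
  rw [← map_mul, ← map_mul] at hc
  refine h.three _ (h.j_mem m) ?_
  rw [← map_pow, sign_centralizer i j hij m ((h.mem_L_iff m).1 hg) (h.C.inj hc), map_one]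

include h in
theorem S_ne_bot : S ≠ ⊥ := fun e => by
  have := h.card9
  rw [e, Subgroup.card_bot] at this
  norm_num at this

include h in
theorem not_isCyclic : ¬ IsCyclic S := by
  intro hc
  obtain ⟨g, hg⟩ := hc.exists_ofOrder_eq_natCard
  have h3 : orderOf g ∣ 3 := orderOf_dvd_of_pow_eq_one (Subtype.ext (by simpa using h.exp3 g g.2))
  rw [hg, h.card9] at h3
  norm_num at h3

include h in
/-- A subgroup of `L` of order prime to three normalised by `S` is trivial. -/
theorem eq_bot_of_coprime {Q : Subgroup G} (hQL : Q ≤ h.L)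
    (hSQ : S ≤ Subgroup.normalizer (Q : Set G)) (hcop : (Nat.card Q).Coprime 3) : Q = ⊥ := by
  haveI : Fact (Nat.Prime 3) := ⟨Nat.prime_three⟩
  haveI : IsMulCommutative S := ⟨⟨fun a b => Subtype.ext (h.comm _ a.2 _ b.2)⟩⟩
  refine le_bot_iff.1 (H79.le_of_centralizers_le (p := 3) h.exp3 h.not_isCyclic hSQ hcop ?_)
  intro x hx hx1 g hg
  have hgS : g ∈ S := h.mem_of_commute hx hx1 (hQL hg.1) (Subgroup.mem_centralizer_singleton_iff.1 hg.2)
  have : Q ⊓ S = ⊥ := Subgroup.inf_eq_bot_of_coprime (by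
    rw [h.card9]; exact Nat.Coprime.pow_right 2 hcop)
  rw [← this]; exact ⟨hg.1, hgS⟩

include h in
/-- `L` normalises `S` as soon as a normal subgroup containing `S` lies in the normaliser. -/
theorem S_normal_of_le {M : Subgroup G} (hM : ∀ l ∈ h.L, ∀ k ∈ M, l * k * l⁻¹ ∈ M) (hSM : S ≤ M)
    (hMN : M ≤ Subgroup.normalizer (S : Set G)) : S.Normal := by
  refine ⟨fun a ha g => ?_⟩
  obtain ⟨n, hn, l, hl, rfl⟩ := h.exists_mul g
  have : l * a * l⁻¹ ∈ S :=
    h.three _ (hMN (hM l hl a (hSM ha))) (by rw [conj_pow, h.exp3 a ha]; group)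
  rw [show n * l * a * (n * l)⁻¹ = n * (l * a * l⁻¹) * n⁻¹ by group]
  exact (Subgroup.mem_normalizer_iff.1 hn _).1 this

include h in
/-- The group `L` is simple unless `S` is normal. -/
theorem normal_cases {M : Subgroup G} (hML : M ≤ h.L) (hM : ∀ l ∈ h.L, ∀ k ∈ M, l * k * l⁻¹ ∈ M) :
    S.Normal ∨ M = ⊥ ∨ M = h.L := by
  classical
  haveI : Fact (Nat.Prime 3) := ⟨Nat.prime_three⟩
  have hSnorm : S ≤ Subgroup.normalizer (M : Set G) := fun s hs => by
    refine Subgroup.mem_normalizer_iff.2 fun k => ⟨hM s (h.S_le_L hs) k, fun hk => ?_⟩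
    have := hM s⁻¹ (h.L.inv_mem (h.S_le_L hs)) _ hk
    rwa [show s⁻¹ * (s * k * s⁻¹) * s⁻¹⁻¹ = k by group] at this
  by_cases hno : ∀ x ∈ M, x ∈ S → x = 1
  · right; left
    refine h.eq_bot_of_coprime hML hSnorm (Nat.Coprime.symm ((Nat.prime_three.coprime_iff_not_dvd).2 ?_))
    intro hdvd
    obtain ⟨x, hx⟩ := exists_prime_orderOf_dvd_card' (G := M) 3 hdvd
    rw [← Subgroup.orderOf_coe] at hx
    obtain ⟨Q, hQ⟩ := (IsPGroup.of_card (p := 3) (n := 1) (G := Subgroup.zpowers (x : G))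
      (by rw [Nat.card_zpowers, hx, pow_one])).exists_le_sylow
    obtain ⟨g, hg⟩ := MulAction.exists_smul_eq G Q h.P
    have hxS : g * (x : G) * g⁻¹ ∈ S := by
      rw [← h.hP, ← hg, Sylow.coe_subgroup_smul]
      exact Subgroup.smul_mem_pointwise_smul _ (MulAut.conj g) _ (hQ (Subgroup.mem_zpowers _))
    obtain ⟨n, hn, l, hl, rfl⟩ := h.exists_mul g
    have hl' : l * (x : G) * l⁻¹ ∈ S := (Subgroup.mem_normalizer_iff.1 hn _).2 (by
      rw [show n * (l * (x : G) * l⁻¹) * n⁻¹ = n * l * x * (n * l)⁻¹ by group]; exact hxS)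
    have h1 := hno _ (hM l hl _ x.2) hl'
    rw [conj_eq_one_iff] at h1
    rw [h1, orderOf_one] at hx
    norm_num at hx
  simp only [not_forall] at hno
  obtain ⟨a, haM, haS, ha1⟩ := hno
  obtain ⟨i₀, j₀, hij₀, rfl⟩ := h.exists_transl_ne haS ha1
  have hSM : S ≤ M := fun x hx => by
    obtain ⟨i, j, rfl⟩ := h.exists_transl hx
    obtain ⟨p, q, e⟩ := span_rotation i₀ j₀ hij₀ i j
    rw [e, map_mul, map_pow, map_pow, map_mul, map_mul, map_inv]
    exact M.mul_mem (M.pow_mem haM _) (M.pow_mem (hM _ ((h.mem_L_iff _).2 sign_r₀) _ haM) _)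
  by_cases htrue : ∃ m : K, m.w = true ∧ h.C.j m ∈ M
  · right; right
    obtain ⟨m, hmw, hmM⟩ := htrue
    have hNL : ∀ x ∈ Subgroup.normalizer (S : Set G), x ∈ h.L → x ∈ M := by
      intro x hx hxL
      rw [← h.range_eq] at hx
      obtain ⟨k, rfl⟩ := hx
      obtain ⟨i, j, p, e⟩ := span_true m hmw ((h.mem_L_iff m).1 (hML hmM)) k ((h.mem_L_iff k).1 hxL)
      rw [e, map_mul, map_pow]
      exact M.mul_mem (hSM (h.transl_mem i j)) (M.pow_mem hmM _)
    refine le_antisymm hML fun l hl => ?_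
    have hSl : S.map (MulAut.conj l).toMonoidHom ≤ M := by
      rintro _ ⟨s, hs, rfl⟩
      exact hM l hl s (hSM hs)
    let PM : Sylow 3 M := h.P.subtype (h.hP.symm ▸ hSM)
    have hp : IsPGroup 3 ((S.map (MulAut.conj l).toMonoidHom).subgroupOf M) := by
      refine (IsPGroup.of_equiv ?_ (Subgroup.subgroupOfEquivOfLe hSl).symm)
      exact IsPGroup.map (h.hP ▸ h.P.isPGroup') _
    obtain ⟨Q, hQ⟩ := hp.exists_le_sylow
    obtain ⟨k, hk⟩ := MulAction.exists_smul_eq M Q PM
    have hconj : ∀ s ∈ S, (k : G) * (l * s * l⁻¹) * (k : G)⁻¹ ∈ S := by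
      intro s hs
      have h1 : (⟨l * s * l⁻¹, hM l hl s (hSM hs)⟩ : M) ∈ (Q : Subgroup M) := hQ ⟨s, hs, rfl⟩
      have h2 := Subgroup.smul_mem_pointwise_smul _ (MulAut.conj k) _ h1
      rw [← Sylow.coe_subgroup_smul, hk] at h2
      rw [← h.hP]
      exact h2
    have hN : (k : G) * l ∈ Subgroup.normalizer (S : Set G) := by
      haveI := Fintype.ofFinite G
      refine Subgroup.mem_normalizer_iff.2 fun s => ?_
      have fwd : ∀ s ∈ S, (k : G) * l * s * ((k : G) * l)⁻¹ ∈ S := fun s hs => by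
        rw [show (k : G) * l * s * ((k : G) * l)⁻¹ = k * (l * s * l⁻¹) * (k : G)⁻¹ by group]
        exact hconj s hs
      refine ⟨fwd s, fun hs => ?_⟩
      have hmap : S.map (MulAut.conj ((k : G) * l)).toMonoidHom = S :=
        Subgroup.eq_of_le_of_card_ge (fun _ ⟨s, hs, e⟩ => e ▸ fwd s hs)
          (by rw [Subgroup.card_map_of_injective (MulEquiv.injective _)])
      rw [← hmap] at hs
      obtain ⟨s', hs', e⟩ := hs
      exact (MulAut.conj ((k : G) * l)).injective e ▸ hs'
    have := hNL _ hN (h.L.mul_mem (hML k.2) hl)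
    exact (M.mul_mem_cancel_left k.2).1 this
  left
  simp only [not_exists, not_and] at htrue
  have hfalse : ∀ m : K, h.C.j m ∈ M → m.w = false := fun m hm => by
    by_contra e
    exact htrue m (by simpa using e) hm
  have hMN : ∀ x ∈ M, x ∈ Subgroup.normalizer (S : Set G) →
      ∃ m : K, x = h.C.j m ∧ m.w = false ∧ la m * lb m = 1 := by
    intro x hx hxN
    rw [← h.range_eq] at hxN
    obtain ⟨m, rfl⟩ := hxN
    exact ⟨m, rfl, hfalse m hx, (h.mem_L_iff m).1 (hML hx)⟩
  let PM : Sylow 3 M := h.P.subtype (h.hP.symm ▸ hSM)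
  have hPM : (PM : Subgroup M) = S.subgroupOf M := by
    rw [show (PM : Subgroup M) = (h.P : Subgroup G).subgroupOf M from h.P.coe_subtype _, h.hP]
  have hPM9 : Nat.card (S.subgroupOf M) = 9 := by
    rw [Nat.card_congr (Subgroup.subgroupOfEquivOfLe hSM).toEquiv, h.card9]
  have hnorm : ∀ x : M, x ∈ Subgroup.normalizer ((S.subgroupOf M : Subgroup M) : Set M) →
      (x : G) ∈ Subgroup.normalizer (S : Set G) := by
    intro x hx
    refine Subgroup.mem_normalizer_iff.2 fun s => ⟨fun hs => ?_, fun hs => ?_⟩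
    · exact (Subgroup.mem_normalizer_iff.1 hx ⟨s, hSM hs⟩).1 hs
    · have hsM : s ∈ M := by
        have := M.mul_mem (M.mul_mem (M.inv_mem x.2) (hSM hs)) x.2
        rwa [show (x : G)⁻¹ * ((x : G) * s * (x : G)⁻¹) * x = s by group] at this
      exact (Subgroup.mem_normalizer_iff.1 hx ⟨s, hsM⟩).2 hs
  by_cases hz : h.C.j z₀ ∈ M
  · -- `M ∩ N` has order eighteen
    haveI := Fintype.ofFinite M
    have hcc : H59.AltSixThree.CC9 (S.subgroupOf M) := by
      refine ⟨hPM9, fun a ha => Subtype.ext (by simpa using h.exp3 _ ha),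
        fun a ha b hb => Subtype.ext (h.comm _ ha _ hb), fun s hs hs1 => ?_⟩
      ext g
      rw [Subgroup.mem_centralizer_singleton_iff]
      exact ⟨fun hg => h.mem_of_commute hs (fun e => hs1 (Subtype.ext e)) (hML g.2) (congrArg Subtype.val hg),
        fun hg => Subtype.ext (h.comm _ hg _ hs)⟩
    let z' : M := ⟨_, hz⟩
    let r : Fin 4 → M := fun l => ⟨_, hSM (h.transl_mem (lineI l) (lineJ l))⟩
    have hrmem : ∀ l, r l ∈ S.subgroupOf M := fun l => h.transl_mem _ _
    have hrne : ∀ l, r l ≠ 1 := fun l e => transl_ne _ _ (line_ne l)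
      (h.C.inj ((congrArg Subtype.val e).trans (map_one _).symm))
    have hreal : ∀ l, z' * r l * z'⁻¹ = (r l)⁻¹ := fun l => Subtype.ext (by
      show h.C.j z₀ * h.C.j (transl _ _) * (h.C.j z₀)⁻¹ = (h.C.j (transl _ _))⁻¹
      rw [← map_inv, ← map_inv, ← map_mul, ← map_mul, z₀_conj, transl_inv])
    have hclass : ∀ (l : Fin 4) (a : M), a ∈ S.subgroupOf M → IsConj (r l) a → a = r l ∨ a = (r l)⁻¹ := by
      intro l a ha hc
      obtain ⟨g, rfl⟩ := isConj_iff.1 hc
      obtain ⟨m, hm, hmw, hms⟩ := hMN g g.2 (hnorm g (hcc.conj_mem_normalizer (hrmem l) (hrne l) ha))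
      rcases false_conj m hmw hms (lineI l) (lineJ l) with e | e
      · left; apply Subtype.ext
        show (g : G) * h.C.j (transl _ _) * (g : G)⁻¹ = h.C.j (transl _ _)
        rw [hm, ← map_inv, ← map_mul, ← map_mul, e]
      · right; apply Subtype.ext
        show (g : G) * h.C.j (transl _ _) * (g : G)⁻¹ = (h.C.j (transl _ _))⁻¹
        rw [hm, ← map_inv, ← map_inv, ← map_mul, ← map_mul, e, transl_inv]
    let R : H59.AltSixThree.Reps (S.subgroupOf M) 2 4 :=
      { r := r
        mem := hrmem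
        ne := hrne
        inj := fun a b hab => by
          apply line_inj
          rcases hclass a (r b) (hrmem b) hab with e | e
          · left; exact h.C.inj (congrArg Subtype.val e)
          · right; rw [← transl_inv]
            exact h.C.inj (by rw [map_inv]; exact congrArg Subtype.val e)
        cover := fun a ha ha1 => by
          obtain ⟨i, j, hij, e⟩ := h.exists_transl_ne (x := (a : G)) ha (fun e => ha1 (Subtype.ext e))
          obtain ⟨l, hl | hl⟩ := line_cover i j hij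
          · exact ⟨l, by rw [show a = r l from Subtype.ext (by rw [e, hl])]⟩
          · refine ⟨l, isConj_iff.2 ⟨z', (hreal l).trans (Subtype.ext ?_)⟩⟩
            show (h.C.j (transl _ _))⁻¹ = (a : G)
            rw [e, hl, ← map_inv, transl_inv]
        card := fun l => by
          have hset : H59.AltSixThree.cls (S.subgroupOf M) (r l) = {r l, (r l)⁻¹} := by
            ext a
            rw [H59.AltSixThree.mem_cls, Finset.mem_insert, Finset.mem_singleton]
            refine ⟨fun ha => hclass l a ha.1 ha.2, ?_⟩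
            rintro (rfl | rfl)
            · exact ⟨hrmem l, IsConj.refl _⟩
            · exact ⟨inv_mem (hrmem l), isConj_iff.2 ⟨z', hreal l⟩⟩
          rw [hset, Finset.card_pair]
          intro e
          refine line_neg l (h.C.inj ?_)
          have := congrArg Subtype.val e
          rw [← transl_inv, map_inv]; exact this
        real := fun l => isConj_iff.2 ⟨z', hreal l⟩ }
    have hle := (H59.AltSixThree.order_bound hcc).2 R
    have h18 : Nat.card (Subgroup.normalizer ((S.subgroupOf M : Subgroup M) : Set M)) = 18 := by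
      rw [← hcc.card_cls (R.mem 0) (R.ne 0), R.card 0]
    have hmul := H62.card_normalizer_mul PM
    rw [hPM, h18] at hmul
    have hmod := H62.card_sylow_mod (G := M) (p := 3)
    have hone : Nat.card (Sylow 3 M) = 1 := by omega
    rw [hone, mul_one] at hmul
    have htop : Subgroup.normalizer ((S.subgroupOf M : Subgroup M) : Set M) = ⊤ :=
      Subgroup.eq_top_of_card_eq _ (by rw [h18, hmul])
    exact h.S_normal_of_le hM hSM fun x hx => hnorm ⟨x, hx⟩ (htop ▸ Subgroup.mem_top _)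
  -- `M ∩ N = S`
  have hMS : ∀ x ∈ M, x ∈ Subgroup.normalizer (S : Set G) → x ∈ S := by
    intro x hx hxN
    obtain ⟨m, rfl, hmw, hms⟩ := hMN x hx hxN
    rcases false_cases m hmw hms with ⟨i, j, rfl⟩ | ⟨i, j, e⟩
    · exact h.transl_mem i j
    · exact absurd (by rw [e, map_mul]; exact M.mul_mem (hSM (h.transl_mem i j)) hx) hz
  have hburn : Subgroup.normalizer ((PM : Subgroup M) : Set M) ≤ Subgroup.centralizer ((PM : Subgroup M) : Set M) := by
    rw [hPM]
    intro x hx
    exact Subgroup.mem_centralizer_iff.2 fun y hy => Subtype.ext (h.comm _ hy _ (hMS x x.2 (hnorm x hx)))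
  have hcompl := MonoidHom.ker_transferSylow_isComplement' PM hburn
  set Q := (MonoidHom.transferSylow PM hburn).ker with hQ
  have hQcard := hcompl.card_mul
  rw [hPM, hPM9] at hQcard
  have hQ3 : ¬ 3 ∣ Nat.card Q := by
    intro hd
    have h27 : 3 ^ 3 ∣ Nat.card M := by rw [← hQcard]; rw [show 3 ^ 3 = 3 * 9 by norm_num]; exact Nat.mul_dvd_mul hd (dvd_refl 9)
    have := PM.pow_dvd_card_of_pow_dvd_card h27
    rw [hPM, hPM9] at this
    norm_num at this
  have hQn : Q.Normal := MonoidHom.normal_ker _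
  clear_value Q
  have hQbot : Q.map M.subtype = ⊥ := by
    refine h.eq_bot_of_coprime ((Subgroup.map_subtype_le _).trans hML) ?_ ?_
    · intro s hs
      refine Subgroup.mem_normalizer_iff.2 fun g => ⟨?_, fun hg => ?_⟩
      · rintro ⟨y, hy, rfl⟩
        exact ⟨⟨s, hSM hs⟩ * y * (⟨s, hSM hs⟩ : M)⁻¹, hQn.conj_mem y hy _, rfl⟩
      · obtain ⟨y, hy, e⟩ := hg
        refine ⟨(⟨s, hSM hs⟩ : M)⁻¹ * y * ⟨s, hSM hs⟩, ?_, ?_⟩
        · simpa using hQn.conj_mem y hy (⟨s, hSM hs⟩ : M)⁻¹
        · show s⁻¹ * (y : G) * s = g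
          rw [show (y : G) = s * g * s⁻¹ from e]; group
    · rw [Subgroup.card_map_of_injective M.subtype_injective]
      exact ((Nat.prime_three.coprime_iff_not_dvd).2 hQ3).symm
  rw [Subgroup.map_eq_bot_iff_of_injective _ M.subtype_injective] at hQbot
  rw [hQbot, Subgroup.card_bot, one_mul] at hQcard
  have hMeq : S = M := Subgroup.eq_of_le_of_card_ge hSM (by rw [h.card9, hQcard])
  exact h.S_normal_of_le hM hSM (hMeq ▸ Subgroup.le_normalizer)

include h in
/-- The recognition theorem. -/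
theorem classify : S.Normal ∨ Nonempty (G ≃* Equiv.Perm (Fin 6)) := by
  classical
  haveI : Fact (Nat.Prime 3) := ⟨Nat.prime_three⟩
  by_cases hS : S.Normal
  · exact Or.inl hS
  right
  haveI : Nontrivial h.L := by
    obtain ⟨s, hs, hs1⟩ := (Subgroup.bot_or_exists_ne_one S).resolve_left h.S_ne_bot
    exact ⟨⟨⟨s, h.S_le_L hs⟩, 1, fun e => hs1 (congrArg Subtype.val e)⟩⟩
  haveI : IsSimpleGroup h.L := ⟨fun M hM => by
    rcases h.normal_cases (M := M.map h.L.subtype) (Subgroup.map_subtype_le _) (by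
        rintro l hl _ ⟨y, hy, rfl⟩
        exact ⟨⟨l, hl⟩ * y * (⟨l, hl⟩ : h.L)⁻¹, hM.conj_mem y hy _, rfl⟩) with e | e | e
    · exact absurd e hS
    · left; exact (Subgroup.map_eq_bot_iff_of_injective _ h.L.subtype_injective).1 e
    · right
      refine Subgroup.map_injective h.L.subtype_injective ?_
      rw [e, ← MonoidHom.range_eq_map, Subgroup.range_subtype]⟩
  let PL : Sylow 3 h.L := h.P.subtype (h.hP.symm ▸ h.S_le_L)
  have hPL : (PL : Subgroup h.L) = S.subgroupOf h.L := by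
    rw [show (PL : Subgroup h.L) = (h.P : Subgroup G).subgroupOf h.L from h.P.coe_subtype _, h.hP]
  have hcc : H59.AltSixThree.CC9 (S.subgroupOf h.L) := by
    refine ⟨by rw [Nat.card_congr (Subgroup.subgroupOfEquivOfLe h.S_le_L).toEquiv, h.card9],
      fun a ha => Subtype.ext (by simpa using h.exp3 _ ha),
      fun a ha b hb => Subtype.ext (h.comm _ ha _ hb), fun s hs hs1 => ?_⟩
    ext g
    rw [Subgroup.mem_centralizer_singleton_iff]
    exact ⟨fun hg => h.mem_of_commute hs (fun e => hs1 (Subtype.ext e)) g.2 (congrArg Subtype.val hg),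
      fun hg => Subtype.ext (h.comm _ hg _ hs)⟩
  have h10 : ((1 : ZMod 3) ≠ 0 ∨ (0 : ZMod 3) ≠ 0) := Or.inl one_ne_zero
  have hord : ∀ i j : ZMod 3, (i ≠ 0 ∨ j ≠ 0) →
      orderOf (⟨_, h.S_le_L (h.transl_mem i j)⟩ : h.L) = 3 := fun i j hij => by
    rw [Subgroup.orderOf_mk, orderOf_injective _ h.C.inj]
    exact orderOf_eq_prime (transl_cube i j) (transl_ne i j hij)
  haveI := Fintype.ofFinite h.L
  have h360 := H59.AltSixThree.card_eq hcc PL hPL ⟨_, _, hord 1 0 h10, hord 1 1 (Or.inl one_ne_zero), fun hc => by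
    obtain ⟨g, hg⟩ := isConj_iff.1 hc
    have hg' : (g : G) * h.C.j (transl 1 0) * (g : G)⁻¹ = h.C.j (transl 1 1) := congrArg Subtype.val hg
    obtain ⟨k, hk⟩ : (g : G) ∈ h.C.j.range := h.C.ti _ (transl_spec 1 0 h10) _ (by rw [hg']; exact ⟨_, rfl⟩)
    rw [← hk, ← map_inv, ← map_mul, ← map_mul] at hg'
    exact two_classes_in_sign k ((h.mem_L_iff k).1 (hk ▸ g.2)) (h.C.inj hg')⟩
  obtain ⟨e6⟩ := H65.alternating_six_of_card h360
  have hG720 : Nat.card G = 720 := by rw [← h.L.card_mul_index, h360, h.index_L]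
  let ρ : G →* MulAut ↥(alternatingGroup (Fin 6)) :=
    (MulAut.congr e6).toMonoidHom.comp MulAut.conjNormal
  have hρ : ∀ (g : G) (x : ↥h.L), ρ g (e6 x) = e6 (MulAut.conjNormal g x) := fun g x => by
    simp [ρ, MulAut.congr]
  set R := (MulAut.conjNormal : Equiv.Perm (Fin 6) →* MulAut ↥(alternatingGroup (Fin 6))).range.comap ρ with hR
  have hLR : h.L ≤ R := fun x hx => ⟨(e6 ⟨x, hx⟩ : Equiv.Perm (Fin 6)), by
    refine MulEquiv.ext fun a => ?_
    obtain ⟨b, rfl⟩ := e6.surjective a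
    rw [hρ]
    apply Subtype.ext
    rw [MulAut.conjNormal_apply,
      show MulAut.conjNormal x b = ⟨x, hx⟩ * b * (⟨x, hx⟩ : ↥h.L)⁻¹ from Subtype.ext (by
        rw [MulAut.conjNormal_apply]; rfl)]
    simp⟩
  have huR : h.C.j u₀ ∈ R := by
    set t : h.L := ⟨_, h.S_le_L (h.transl_mem 0 1)⟩ with ht
    have hfix : ρ (h.C.j u₀) (e6 t) = e6 t := by
      rw [hρ]
      congr 1
      apply Subtype.ext
      rw [MulAut.conjNormal_apply]
      show h.C.j u₀ * h.C.j (transl 0 1) * (h.C.j u₀)⁻¹ = h.C.j (transl 0 1)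
      rw [← map_inv, ← map_mul, ← map_mul, u₀_fix]
    obtain ⟨σ, hσ⟩ := H32.AltAut.exists_conjNormal_of_preserves (by simp) (ρ (h.C.j u₀))
      (H70.S6.preserves_threeCycle _ ((MulEquiv.orderOf_eq e6 _).trans (hord 0 1 (Or.inr one_ne_zero))) hfix)
    exact ⟨σ, hσ⟩
  have hRtop : R = ⊤ := by
    refine eq_top_iff.mpr fun g _ => ?_
    obtain ⟨n, hn, l, hl, rfl⟩ := h.exists_mul g
    refine mul_mem ?_ (hLR hl)
    by_cases hn' : n ∈ h.L
    · exact hLR hn'
    · have hu : h.C.j u₀ ∉ h.L := fun e => absurd ((h.mem_L_iff _).1 e) (by decide)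
      have := (Subgroup.mul_mem_iff_of_index_two h.index_L).mpr (iff_of_false hn' hu)
      have h1 := mul_mem (hLR this) (inv_mem huR)
      rwa [mul_inv_cancel_right] at h1
  have hinj : Function.Injective ρ := by
    refine (injective_iff_map_eq_one ρ).2 fun n hn => ?_
    have hc : ∀ x : h.L, n * (x : G) * n⁻¹ = x := fun x => by
      have h1 := hρ n x
      rw [hn, MulAut.one_apply] at h1
      have h2 := congrArg Subtype.val (e6.injective h1)
      rw [MulAut.conjNormal_apply] at h2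
      exact h2.symm
    have hnS : n ∈ S := h.self (Subgroup.mem_centralizer_iff.2 fun s hs =>
      (mul_inv_eq_iff_eq_mul.1 (hc ⟨s, h.S_le_L hs⟩)).symm)
    by_contra hn1
    set n' : h.L := ⟨n, h.S_le_L hnS⟩ with hn'
    have hcen : n' ∈ Subgroup.center h.L := Subgroup.mem_center_iff.2 fun x =>
      Subtype.ext (mul_inv_eq_iff_eq_mul.1 (hc x)).symm
    rcases (inferInstance : (Subgroup.center h.L).Normal).eq_bot_or_eq_top with hb | ht
    · rw [hb, Subgroup.mem_bot] at hcen
      exact hn1 (congrArg Subtype.val hcen)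
    · obtain ⟨a, b, hab⟩ := H70.S6.alt6_noncomm
      refine hab (e6.symm.injective ?_)
      rw [map_mul, map_mul]
      exact (Subgroup.mem_center_iff.1 (ht ▸ Subgroup.mem_top (e6.symm b)) _)
  have hκ : Function.Injective (MulAut.conjNormal : Equiv.Perm (Fin 6) →* MulAut ↥(alternatingGroup (Fin 6))) :=
    H32.AltAut.conjNormal_injective (by simp)
  let κ := MonoidHom.ofInjective hκ
  let ρ' : G →* (MulAut.conjNormal : Equiv.Perm (Fin 6) →* MulAut ↥(alternatingGroup (Fin 6))).range :=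
    ρ.codRestrict _ fun g => (hRtop ▸ Subgroup.mem_top g : g ∈ R)
  let ψ : G →* Equiv.Perm (Fin 6) := κ.symm.toMonoidHom.comp ρ'
  have hψ : Function.Injective ψ := κ.symm.injective.comp fun a b e => hinj (congrArg Subtype.val e)
  exact ⟨MulEquiv.ofBijective ψ ((Nat.bijective_iff_injective_and_card ψ).mpr
    ⟨hψ, by rw [hG720, Nat.card_perm, Nat.card_fin]; rfl⟩)⟩

end Six

end H6.Three
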