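import Cfsg.Agent.H6.Three.Model

/-!
The finite search over the shapes of the coefficient vectors.
-/

set_option autoImplicit false
set_option linter.all false

namespace H6.Three

/-- A unit entry. -/
def ent (i : Fin 3) : ℤ := (i.val : ℤ) - 1

def cC (i : Fin 6) : ℤ := if i.val < 4 then 1 else 0
def cD (i : Fin 6) : ℤ := if i.val < 2 ∨ 4 ≤ i.val then 1 else 0

/-- The parity of the valuation forced by a coefficient sum, with a free value when it is undetermined. -/
def dlt (s : ℤ) (free : Bool) : Bool :=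
  if s % 3 ≠ 0 then false else if s = 3 ∨ s = -3 then true else free

/-- Conditions on the first coefficient row. -/
def ValA (a : Fin 6 → Fin 3) : Prop :=
  (∑ i, ent (a i) * ent (a i)) ≤ 3 ∧ (∑ i, ent (a i) * cC i) = 1 ∧ (∑ i, ent (a i) * cD i) = 2

/-- Conditions on the second coefficient row. -/
def ValB (b : Fin 6 → Fin 3) : Prop :=
  (∑ i, ent (b i) * ent (b i)) ≤ 3 ∧ (∑ i, ent (b i) * cC i) = 2 ∧ (∑ i, ent (b i) * cD i) = 1

/-- The parity vector. -/
def par (f : Fin 6 → ℤ) (δ : Fin 6 → Bool) : Bool :=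
  (List.finRange 6).foldl (fun acc i => xor acc (decide (f i ≠ 0) && δ i)) false

/-- Either the parities disagree or the coefficients have the shape of the symmetric group of degree six. -/
def Outcome (a b : Fin 6 → Fin 3) : Prop :=
  (∀ free : Fin 6 → Bool,
    let δ := fun i => dlt (ent (a i) + ent (b i) + cC i + cD i) (free i)
    ¬ (par (fun i => ent (a i)) δ = par cC δ ∧ par (fun i => ent (b i)) δ = par cC δ ∧ par cD δ = par cC δ)) ∨
  ∃ x1 x6 x2 x4 : Fin 6, x1.val < 2 ∧ x6.val < 2 ∧ 4 ≤ x2.val ∧ 2 ≤ x4.val ∧ x4.val < 4 ∧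
    ent (a x1) = 1 ∧ ent (b x1) = 1 ∧ ent (a x6) = 0 ∧ ent (b x6) = 0 ∧
    ent (a x2) = 1 ∧ ent (b x2) = 0 ∧ ent (a x4) = 0 ∧ ent (b x4) = 1

instance (a : Fin 6 → Fin 3) : Decidable (ValA a) := by unfold ValA; infer_instance
instance (b : Fin 6 → Fin 3) : Decidable (ValB b) := by unfold ValB; infer_instance
instance (a b : Fin 6 → Fin 3) : Decidable (Outcome a b) := by unfold Outcome; infer_instance

/-- The possible rows. -/
def allRows : List (Fin 6 → Fin 3) :=
  (List.finRange 729).map fun k => fun i => ⟨k.val / 3 ^ i.val % 3, Nat.mod_lt _ (by omega)⟩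

theorem mem_allRows (a : Fin 6 → Fin 3) : a ∈ allRows := by
  refine List.mem_map.2 ⟨⟨(a 0).val + 3 * (a 1).val + 9 * (a 2).val + 27 * (a 3).val + 81 * (a 4).val +
    243 * (a 5).val, by omega⟩, List.mem_finRange _, funext fun i => Fin.ext ?_⟩
  fin_cases i <;> simp <;> omega

/-- The inner product of the two rows on the six points is at most two. -/
theorem table_check : ∀ a ∈ allRows.filter (fun a => decide (ValA a)),
    ∀ b ∈ allRows.filter (fun b => decide (ValB b)),
      ((∑ i, ent (a i) * ent (b i)) = 2 → ¬ ((∑ i, ent (a i) * ent (a i)) ≤ 2 ∧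
          (∑ i, ent (b i) * ent (b i)) ≤ 2)) ∧
      ((∑ i, ent (a i) * ent (b i)) = 1 ∨
        ((∑ i, ent (a i) * ent (b i)) = 0 ∧ (∑ i, ent (a i) * ent (a i)) ≤ 2 ∧
          (∑ i, ent (b i) * ent (b i)) ≤ 2) → Outcome a b) := by decide +kernel

theorem table (a b : Fin 6 → Fin 3) (ha : ValA a) (hb : ValB b) :
    ((∑ i, ent (a i) * ent (b i)) = 2 → ¬ ((∑ i, ent (a i) * ent (a i)) ≤ 2 ∧
          (∑ i, ent (b i) * ent (b i)) ≤ 2)) ∧
      ((∑ i, ent (a i) * ent (b i)) = 1 ∨
        ((∑ i, ent (a i) * ent (b i)) = 0 ∧ (∑ i, ent (a i) * ent (a i)) ≤ 2 ∧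
          (∑ i, ent (b i) * ent (b i)) ≤ 2) → Outcome a b) :=
  table_check a (List.mem_filter.2 ⟨mem_allRows a, decide_eq_true ha⟩) b
    (List.mem_filter.2 ⟨mem_allRows b, decide_eq_true hb⟩)

end H6.Three
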